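import Cfsg.Agent.H943.RepAdd

/-!
# Pressure lemmas (helper940, for S5921, interface of helper525)

`psi` : an additive integer function on the finite-dimensional representations of a perfect group `G` over `k`.

* `pressure_one` : `M ^ G = 0 → psi M ≤ 0`;
* `pressure_two` : `M ^ G = 0`, `M` self-dual for `psi`, `M` has a trivial composition factor `→ psi M ≤ -D'`.
-/

set_option autoImplicit false

open scoped commutatorElement

namespace Cfsg.Agent.H940.E8L

open Cfsg.Agent.H943.RepAdd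

universe u v w

/-- invariant subspace -/
abbrev Inv {k : Type u} [Field k] {G : Type v} [Group G] {V : Type w} [AddCommGroup V] [Module k V]
    (ρ : Representation k G V) (W : Submodule k V) : Prop := ∀ g, ∀ x ∈ W, ρ g x ∈ W

/-- no nonzero fixed vectors -/
def NoFix {k : Type u} [Field k] {G : Type v} [Group G] {V : Type w} [AddCommGroup V] [Module k V]
    (ρ : Representation k G V) : Prop := ∀ x : V, (∀ g, ρ g x = x) → x = 0

/-- an additive integer function on the finite-dimensional representations -/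
structure AddFun (k : Type u) [Field k] (G : Type v) [Group G] where
  psi : ∀ {V : Type w} [AddCommGroup V] [Module k V], Representation k G V → ℤ
  add : ∀ {V : Type w} [AddCommGroup V] [Module k V] [FiniteDimensional k V] (ρ : Representation k G V)
    (W : Submodule k V) (hW : Inv ρ W), psi ρ = psi (subRep ρ W hW) + psi (quotRep ρ W hW)
  iso : ∀ {V₁ V₂ : Type w} [AddCommGroup V₁] [Module k V₁] [AddCommGroup V₂] [Module k V₂]
    [FiniteDimensional k V₁] [FiniteDimensional k V₂]
    (ρ₁ : Representation k G V₁) (ρ₂ : Representation k G V₂) (φ : V₁ ≃ₗ[k] V₂), (∀ g x, φ (ρ₁ g x) = ρ₂ g (φ x)) →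
    psi ρ₁ = psi ρ₂

variable {k : Type u} [Field k] {G : Type v} [Group G]

/-- `W` is an irreducible invariant subspace -/
def IrrIn {V : Type w} [AddCommGroup V] [Module k V] (ρ : Representation k G V) (W : Submodule k V) : Prop :=
  W ≠ ⊥ ∧ ∀ W' ≤ W, Inv ρ W' → W' = ⊥ ∨ W' = W

/-- `ρ` is trivial modulo `W` -/
def TrivMod {V : Type w} [AddCommGroup V] [Module k V] (ρ : Representation k G V) (W : Submodule k V) : Prop :=
  ∀ g x, ρ g x - x ∈ W

section basic

variable {V : Type w} [AddCommGroup V] [Module k V] (ρ : Representation k G V)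

/-- the vectors fixed modulo `W` -/
def fixMod (W : Submodule k V) : Submodule k V where
  carrier := {x | ∀ g, ρ g x - x ∈ W}
  add_mem' {a b} ha hb g := by
    rw [map_add, add_sub_add_comm]
    exact W.add_mem (ha g) (hb g)
  zero_mem' g := by
    rw [map_zero, sub_zero]
    exact W.zero_mem
  smul_mem' c x hx g := by
    rw [map_smul, ← smul_sub]
    exact W.smul_mem c (hx g)

theorem mem_fixMod {W : Submodule k V} {x : V} : x ∈ fixMod ρ W ↔ ∀ g, ρ g x - x ∈ W := Iff.rfl

theorem le_fixMod {W : Submodule k V} (hW : Inv ρ W) : W ≤ fixMod ρ W := fun x hx g => W.sub_mem (hW g x hx) hx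

theorem inv_of_between {W E : Submodule k V} (hWE : W ≤ E) (hE : E ≤ fixMod ρ W) : Inv ρ E := by
  intro g x hx
  have h1 := hE hx g
  have h2 : ρ g x = (ρ g x - x) + x := by abel
  rw [h2]
  exact E.add_mem (hWE h1) hx

/-- for a perfect group, fixed modulo `fixMod W` implies fixed modulo `W` -/
theorem fixMod_fixMod (hG : commutator G = ⊤) {W : Submodule k V} (hW : Inv ρ W) :
    fixMod ρ (fixMod ρ W) = fixMod ρ W := by
  apply le_antisymm
  · intro x hx
    -- the additive homomorphism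
    let c : G →* Multiplicative (V ⧸ W) :=
      { toFun := fun g => Multiplicative.ofAdd (W.mkQ (ρ g x - x))
        map_one' := by
          rw [map_one, Module.End.one_apply, sub_self, map_zero]
          rfl
        map_mul' := fun g h => by
          have h1 : ρ (g * h) x - x = (ρ g x - x) + (ρ h x - x) + (ρ g (ρ h x - x) - (ρ h x - x)) := by
            rw [map_mul, Module.End.mul_apply, map_sub]
            abel
          have h2 : W.mkQ (ρ g (ρ h x - x) - (ρ h x - x)) = 0 := by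
            rw [Submodule.mkQ_apply, Submodule.Quotient.mk_eq_zero]
            exact hx h g
          have h3 : W.mkQ (ρ (g * h) x - x) = W.mkQ (ρ g x - x) + W.mkQ (ρ h x - x) := by
            rw [h1, map_add, map_add, h2, add_zero]
          rw [h3]
          rfl }
    have hker : commutator G ≤ c.ker := by
      rw [commutator_eq_closure, Subgroup.closure_le]
      rintro _ ⟨a, b, rfl⟩
      show c ⁅a, b⁆ = 1
      rw [map_commutatorElement, commutatorElement_eq_one_iff_mul_comm, mul_comm]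
    rw [hG] at hker
    intro g
    have h1 : c g = 1 := hker (Subgroup.mem_top g)
    have h2 : W.mkQ (ρ g x - x) = 0 := h1
    rwa [Submodule.mkQ_apply, Submodule.Quotient.mk_eq_zero] at h2
  · exact le_fixMod ρ (inv_of_between ρ (le_fixMod ρ hW) le_rfl)

theorem noFix_quot {W : Submodule k V} (hW : Inv ρ W) (h : fixMod ρ W ≤ W) : NoFix (quotRep ρ W hW) := by
  intro y hy
  obtain ⟨x, rfl⟩ := W.mkQ_surjective y
  rw [Submodule.mkQ_apply, Submodule.Quotient.mk_eq_zero]
  apply h
  intro g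
  have h1 := hy g
  rw [quotRep_mk, ← sub_eq_zero, ← map_sub, Submodule.mkQ_apply, Submodule.Quotient.mk_eq_zero] at h1
  exact h1

theorem noFix_sub {W : Submodule k V} (hW : Inv ρ W) (h : NoFix ρ) : NoFix (subRep ρ W hW) := by
  intro x hx
  apply Subtype.ext
  exact h x fun g => congrArg Subtype.val (hx g)

end basic

section pressure

variable (A : AddFun.{u, v, w} k G) (D : ℤ)

/-- **(1)** -/
theorem pressure_one (hG : commutator G = ⊤)
    (hT : ∀ {V : Type w} [AddCommGroup V] [Module k V] [FiniteDimensional k V] (ρ : Representation k G V),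
      (∀ g x, ρ g x = x) → A.psi ρ ≤ D * Module.finrank k V)
    (hE : ∀ {E : Type w} [AddCommGroup E] [Module k E] [FiniteDimensional k E] (ρ : Representation k G E)
      (W : Submodule k E) (hW : Inv ρ W), IrrIn ρ W → TrivMod ρ W → NoFix ρ →
      A.psi (subRep ρ W hW) + D * Module.finrank k (E ⧸ W) ≤ 0)
    (n : ℕ) : ∀ {V : Type w} [AddCommGroup V] [Module k V] [FiniteDimensional k V] (ρ : Representation k G V),
      Module.finrank k V = n → NoFix ρ → A.psi ρ ≤ 0 := by
  induction n using Nat.strong_induction_on with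
  | _ n ih =>
  intro V _ _ _ ρ hn hfix
  by_cases hV : Nontrivial V
  swap
  · rw [not_nontrivial_iff_subsingleton] at hV
    have h1 := hT ρ fun g x => Subsingleton.elim _ _
    rwa [Module.finrank_zero_of_subsingleton, Nat.cast_zero, mul_zero] at h1
  obtain ⟨W, hW, hW0, hWmin⟩ := exists_irr_sub ρ
  have hEi : Inv ρ (fixMod ρ W) := inv_of_between ρ (le_fixMod ρ hW) le_rfl
  have hWE := le_fixMod ρ hW
  -- the section `E = fixMod W`
  set E := fixMod ρ W with hEdef
  let W' : Submodule k E := W.comap E.subtype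
  have hW' : Inv (subRep ρ E hEi) W' := fun g x hx => hW g x hx
  have hirr : IrrIn (subRep ρ E hEi) W' := by
    refine ⟨fun h => hW0 ?_, fun X hX hXi => ?_⟩
    · rw [eq_bot_iff]
      intro x hx
      have h1 : (⟨x, hWE hx⟩ : E) ∈ W' := hx
      rw [h, Submodule.mem_bot] at h1
      exact congrArg Subtype.val h1
    · have hmap : X.map E.subtype ≤ W := by
        rintro _ ⟨y, hy, rfl⟩
        exact hX hy
      rcases hWmin (X.map E.subtype) hmap (by
        rintro g _ ⟨y, hy, rfl⟩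
        exact ⟨_, hXi g y hy, rfl⟩) with h | h
      · left
        rw [eq_bot_iff]
        intro x hx
        have h1 : (x : V) ∈ X.map E.subtype := ⟨x, hx, rfl⟩
        rw [h, Submodule.mem_bot] at h1
        exact (Submodule.mem_bot k).2 (Subtype.ext h1)
      · right
        apply le_antisymm hX
        intro x hx
        have h1 : (x : V) ∈ X.map E.subtype := by
          rw [h]; exact hx
        obtain ⟨y, hy, hyx⟩ := h1
        rwa [← Subtype.ext (a1 := y) (a2 := x) hyx]
  have htr : TrivMod (subRep ρ E hEi) W' := fun g x => x.2 g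
  have h1 := hE (subRep ρ E hEi) W' hW' hirr htr (noFix_sub ρ hEi hfix)
  have h2 := hT (quotRep (subRep ρ E hEi) W' hW') (by
    intro g y
    obtain ⟨x, rfl⟩ := W'.mkQ_surjective y
    rw [quotRep_mk, ← sub_eq_zero, ← map_sub, Submodule.mkQ_apply, Submodule.Quotient.mk_eq_zero]
    exact htr g x)
  have h3 := A.add (subRep ρ E hEi) W' hW'
  have h4 := A.add ρ E hEi
  have hE0 : E ≠ ⊥ := fun h => hW0 (eq_bot_iff.2 (h ▸ hWE))
  have h5 : Module.finrank k (V ⧸ E) < n := by
    have h6 := Submodule.finrank_quotient_add_finrank E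
    have h7 : Module.finrank k E ≠ 0 := fun h => hE0 (Submodule.finrank_eq_zero.1 h)
    omega
  have h8 := ih _ h5 (quotRep ρ E hEi) rfl (noFix_quot ρ hEi (fixMod_fixMod ρ hG hW).le)
  linarith

/-- a surjective equivariant map with kernel `W` -/
theorem psi_quot_of_surj {V₁ V₂ : Type w} [AddCommGroup V₁] [Module k V₁] [AddCommGroup V₂] [Module k V₂]
    [FiniteDimensional k V₁] [FiniteDimensional k V₂] (ρ₁ : Representation k G V₁) (ρ₂ : Representation k G V₂)
    (f : V₁ →ₗ[k] V₂) (hf : Function.Surjective f) (h : ∀ g x, f (ρ₁ g x) = ρ₂ g (f x)) (W : Submodule k V₁)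
    (hW : Inv ρ₁ W) (hker : ∀ x, x ∈ W ↔ f x = 0) : A.psi (quotRep ρ₁ W hW) = A.psi ρ₂ := by
  have hle : W ≤ LinearMap.ker f := fun x hx => (hker x).1 hx
  refine A.iso _ _ (LinearEquiv.ofBijective (W.liftQ f hle) ⟨?_, ?_⟩) ?_
  · rw [injective_iff_map_eq_zero]
    intro y hy
    obtain ⟨x, rfl⟩ := W.mkQ_surjective y
    rw [Submodule.mkQ_apply, Submodule.Quotient.mk_eq_zero]
    exact (hker x).2 hy
  · intro y
    obtain ⟨x, rfl⟩ := hf y
    exact ⟨W.mkQ x, rfl⟩
  · intro g y
    obtain ⟨x, rfl⟩ := W.mkQ_surjective y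
    exact h g x

theorem mem_map_mkQ {V : Type w} [AddCommGroup V] [Module k V] {N W : Submodule k V} (hNW : N ≤ W) {x : V} :
    N.mkQ x ∈ W.map N.mkQ ↔ x ∈ W := by
  constructor
  · rintro ⟨y, hy, hyx⟩
    have h1 : N.mkQ (y - x) = 0 := by rw [map_sub, hyx, sub_self]
    rw [Submodule.mkQ_apply, Submodule.Quotient.mk_eq_zero] at h1
    have h2 : x = y - (y - x) := by abel
    rw [h2]
    exact W.sub_mem hy (hNW h1)
  · exact fun hx => ⟨x, hx, rfl⟩

/-- **(2)** -/
theorem pressure_two (hG : commutator G = ⊤)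
    (hT : ∀ {V : Type w} [AddCommGroup V] [Module k V] [FiniteDimensional k V] (ρ : Representation k G V),
      (∀ g x, ρ g x = x) → A.psi ρ ≤ D * Module.finrank k V)
    (hE : ∀ {E : Type w} [AddCommGroup E] [Module k E] [FiniteDimensional k E] (ρ : Representation k G E)
      (W : Submodule k E) (hW : Inv ρ W), IrrIn ρ W → TrivMod ρ W → NoFix ρ →
      A.psi (subRep ρ W hW) + D * Module.finrank k (E ⧸ W) ≤ 0) (D' : ℤ)
    (hE' : ∀ {E : Type w} [AddCommGroup E] [Module k E] [FiniteDimensional k E] (ρ : Representation k G E)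
      (W : Submodule k E) (hW : Inv ρ W), IrrIn ρ W → TrivMod ρ W → NoFix ρ → W ≠ ⊤ → A.psi (subRep ρ W hW) ≤ -D')
    {V : Type w} [AddCommGroup V] [Module k V] [FiniteDimensional k V] (ρ : Representation k G V) (hfix : NoFix ρ)
    (hdual : ∀ (N : Submodule k V) (hN : Inv ρ N), ∃ (N' : Submodule k V) (hN' : Inv ρ N'),
      A.psi (quotRep ρ N' hN') = A.psi (subRep ρ N hN))
    (htriv : ∃ N : Submodule k V, Inv ρ N ∧ ∃ x : V, x ∉ N ∧ ∀ g, ρ g x - x ∈ N) : A.psi ρ ≤ -D' := by
  have hone := @pressure_one k _ G _ A D hG @hT @hE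
  -- the minimal `N₁`
  obtain ⟨N₁, ⟨hN₁, x, hxN, hx⟩, hmin⟩ := (wellFounded_lt (α := Submodule k V)).has_min
    {N : Submodule k V | Inv ρ N ∧ ∃ x : V, x ∉ N ∧ ∀ g, ρ g x - x ∈ N} htriv
  have hN₁0 : N₁ ≠ ⊥ := by
    rintro rfl
    apply hxN
    rw [Submodule.mem_bot]
    exact hfix x fun g => by
      have h1 := hx g
      rwa [Submodule.mem_bot, sub_eq_zero] at h1
  -- a maximal invariant subspace of `N₁`
  obtain ⟨N₀, ⟨hN₀, hlt⟩, hmax⟩ := (wellFounded_gt (α := Submodule k V)).has_min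
    {N : Submodule k V | Inv ρ N ∧ N < N₁} ⟨⊥, by
      intro g y hy
      rw [Submodule.mem_bot] at hy ⊢
      rw [hy, map_zero], bot_lt_iff_ne_bot.2 hN₁0⟩
  have hle : N₀ ≤ N₁ := hlt.le
  have hfm : fixMod ρ N₀ ≤ N₀ := by
    intro y hy
    by_contra hyN
    exact hmin N₀ ⟨hN₀, y, hyN, hy⟩ hlt
  have hnf : NoFix (quotRep ρ N₀ hN₀) := noFix_quot ρ hN₀ hfm
  set ρ₀ := quotRep ρ N₀ hN₀ with hρ₀
  let W₀ : Submodule k (V ⧸ N₀) := N₁.map N₀.mkQ
  have hW₀ : Inv ρ₀ W₀ := by
    rintro g _ ⟨y, hy, rfl⟩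
    exact ⟨ρ g y, hN₁ g y hy, rfl⟩
  have hEi : Inv ρ₀ (fixMod ρ₀ W₀) := inv_of_between ρ₀ (le_fixMod ρ₀ hW₀) le_rfl
  have hWE : W₀ ≤ fixMod ρ₀ W₀ := le_fixMod ρ₀ hW₀
  set E := fixMod ρ₀ W₀ with hEdef
  let W : Submodule k E := W₀.comap E.subtype
  have hW : Inv (subRep ρ₀ E hEi) W := fun g y hy => hW₀ g y hy
  have hirr : IrrIn (subRep ρ₀ E hEi) W := by
    refine ⟨fun h => ?_, fun X hX hXi => ?_⟩
    · obtain ⟨y, hy, hyN⟩ := SetLike.exists_of_lt hlt
      have h1 : N₀.mkQ y ∈ W₀ := ⟨y, hy, rfl⟩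
      have h2 : (⟨N₀.mkQ y, hWE h1⟩ : E) ∈ W := h1
      rw [h, Submodule.mem_bot] at h2
      have h3 := congrArg Subtype.val h2
      exact hyN ((Submodule.Quotient.mk_eq_zero N₀).1 h3)
    · -- the preimage of `X` in `V`
      let Y : Submodule k V := (X.map E.subtype).comap N₀.mkQ
      have hYi : Inv ρ Y := by
        rintro g y ⟨z, hz, hzy⟩
        refine ⟨_, hXi g z hz, ?_⟩
        show ρ₀ g (z : V ⧸ N₀) = N₀.mkQ (ρ g y)
        have h1 : (z : V ⧸ N₀) = N₀.mkQ y := hzy
        rw [h1]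
        rfl
      have hYle : Y ≤ N₁ := by
        rintro y ⟨z, hz, hzy⟩
        have h1 : (z : V ⧸ N₀) ∈ W₀ := hX hz
        have h2 : (z : V ⧸ N₀) = N₀.mkQ y := hzy
        rw [h2] at h1
        exact (mem_map_mkQ hle).1 h1
      have hN₀Y : N₀ ≤ Y := by
        intro y hy
        refine ⟨0, X.zero_mem, ?_⟩
        show (0 : V ⧸ N₀) = N₀.mkQ y
        exact ((Submodule.Quotient.mk_eq_zero N₀).2 hy).symm
      rcases hYle.lt_or_eq with h | h
      · left
        have h1 : Y = N₀ := by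
          by_contra hne
          exact hmax Y ⟨hYi, h⟩ (lt_of_le_of_ne hN₀Y (Ne.symm hne))
        rw [eq_bot_iff]
        intro z hz
        obtain ⟨y, hy⟩ := N₀.mkQ_surjective (z : V ⧸ N₀)
        have h2 : y ∈ Y := ⟨z, hz, hy.symm⟩
        rw [h1] at h2
        refine (Submodule.mem_bot k).2 (Subtype.ext ?_)
        rw [← hy]
        exact (Submodule.Quotient.mk_eq_zero N₀).2 h2
      · right
        apply le_antisymm hX
        intro z hz
        obtain ⟨y, hy, hyz⟩ := hz
        have h2 : y ∈ Y := h ▸ hy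
        obtain ⟨z', hz', hzy'⟩ := h2
        have h3 : z' = z := Subtype.ext ((show (z' : V ⧸ N₀) = N₀.mkQ y from hzy').trans hyz)
        rwa [h3] at hz'
  have htr : TrivMod (subRep ρ₀ E hEi) W := fun g y => y.2 g
  have hWtop : W ≠ ⊤ := by
    intro h
    have h1 : N₀.mkQ x ∈ E := by
      intro g
      have h2 : ρ₀ g (N₀.mkQ x) - N₀.mkQ x = N₀.mkQ (ρ g x - x) := by
        rw [map_sub]; rfl
      rw [h2]
      exact ⟨_, hx g, rfl⟩
    have h2 : (⟨N₀.mkQ x, h1⟩ : E) ∈ W := by rw [h]; trivial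
    exact hxN ((mem_map_mkQ hle).1 h2)
  have h1 := hE' (subRep ρ₀ E hEi) W hW hirr htr (noFix_sub ρ₀ hEi hnf) hWtop
  -- `psi N₁`
  let N₀' : Submodule k N₁ := N₀.comap N₁.subtype
  have hN₀' : Inv (subRep ρ N₁ hN₁) N₀' := fun g y hy => hN₀ g y hy
  have h2 := A.add (subRep ρ N₁ hN₁) N₀' hN₀'
  have h3 := hone _ (subRep (subRep ρ N₁ hN₁) N₀' hN₀') rfl (noFix_sub _ hN₀' (noFix_sub ρ hN₁ hfix))
  let f : N₁ →ₗ[k] W :=
    { toFun := fun y => ⟨⟨N₀.mkQ y, hWE ⟨y, y.2, rfl⟩⟩, ⟨y, y.2, rfl⟩⟩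
      map_add' := fun a b => rfl
      map_smul' := fun c a => rfl }
  have h4 : A.psi (quotRep (subRep ρ N₁ hN₁) N₀' hN₀') = A.psi (V := W) (subRep (subRep ρ₀ E hEi) W hW) := by
    refine psi_quot_of_surj A _ _ f ?_ (fun g y => rfl) N₀' hN₀' fun y => ?_
    · intro z
      obtain ⟨y, hy, hyz⟩ : ((z : E) : V ⧸ N₀) ∈ W₀ := z.2
      exact ⟨⟨y, hy⟩, Subtype.ext (Subtype.ext hyz)⟩
    · constructor
      · intro hy
        apply Subtype.ext
        apply Subtype.ext
        exact (Submodule.Quotient.mk_eq_zero N₀).2 hy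
      · intro hy
        have h5 := congrArg (fun w : W => ((w : E) : V ⧸ N₀)) hy
        exact (Submodule.Quotient.mk_eq_zero N₀).1 h5
  obtain ⟨N', hN', hd⟩ := hdual N₁ hN₁
  have h5 := A.add ρ N' hN'
  have h6 := hone _ (subRep ρ N' hN') rfl (noFix_sub ρ hN' hfix)
  linarith

end pressure

end Cfsg.Agent.H940.E8L
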