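import Cfsg.Agent.H943.Cert

/-!
# The elements of order 41 of `SL(2, 81)` on the modules `V_b` (helper940, for S5921)

* `finrank_eig_of_conj` : if `g` is conjugate to `h μ` over `k`, the multiplicities of the eigenvalues of `g` on `V_b` are
  those of `h μ`;
* `exists_nonsplit` : the element of order 41.
-/

set_option autoImplicit false
set_option linter.unusedSectionVars false

namespace Cfsg.Agent.H940.E8L.NonSplit

open Matrix Cfsg.Agent.H943.SL2Rel Cfsg.Agent.H943.RepAdd Cfsg.Agent.H943.SL2Mod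

section big

variable {k : Type*} [Field k]

/-- the monomial `x ^ m y ^ (b - m)` on `k²` -/
def monk (k : Type*) [Field k] (b m : ℕ) : k × k → k := fun z => z.1 ^ m * z.2 ^ (b - m)

/-- the module -/
def L (k : Type*) [Field k] (b : ℕ) : Submodule k (k × k → k) := Submodule.span k (monk k b '' Bb k b)

theorem monk_mem {b m : ℕ} (hm : m ∈ Bb k b) : monk k b m ∈ L k b := Submodule.subset_span ⟨m, hm, rfl⟩

theorem u_monk (t : k) {b m : ℕ} (hm : m ∈ Bb k b) : fRep k k (u t) (monk k b m) ∈ L k b := by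
  have h1 : fRep k k (u t) (monk k b m) =
      ∑ j ∈ Finset.range (b - m + 1), (t ^ j * ((b - m).choose j : k)) • monk k b (m + j) := by
    funext z
    obtain ⟨x, y⟩ := z
    rw [Finset.sum_apply]
    show (x * 1 + y * 0) ^ m * (x * t + y * 1) ^ (b - m) =
      ∑ j ∈ Finset.range (b - m + 1), (t ^ j * ((b - m).choose j : k)) * (x ^ (m + j) * y ^ (b - (m + j)))
    rw [mul_one, mul_zero, add_zero, mul_one, add_pow, Finset.mul_sum]
    refine Finset.sum_congr rfl fun j _ => ?_
    rw [mul_pow, pow_add, Nat.sub_sub]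
    ring
  rw [h1]
  refine sum_mem fun j hj => ?_
  by_cases h0 : ((b - m).choose j : k) = 0
  · rw [h0, mul_zero, zero_smul]
    exact Submodule.zero_mem _
  · refine Submodule.smul_mem _ _ (monk_mem ?_)
    have hj' : j ≤ b - m := Nat.lt_succ_iff.1 (Finset.mem_range.1 hj)
    have hmb := hm.1
    have h2 : m + j ≤ b := by omega
    refine ⟨h2, fun h3 => ?_⟩
    have h4 := Nat.choose_mul (n := b) (k := m + j) (s := m) (Nat.le_add_right m j)
    have h5 : ((b.choose (m + j) * (m + j).choose m : ℕ) : k) = ((b.choose m * (b - m).choose (m + j - m) : ℕ) : k) := by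
      rw [h4]
    rw [Nat.cast_mul, Nat.cast_mul, h3, zero_mul, Nat.add_sub_cancel_left] at h5
    exact mul_ne_zero hm.2 h0 h5.symm

theorem w_monk {b m : ℕ} (hm : m ∈ Bb k b) : fRep k k w (monk k b m) ∈ L k b := by
  have h1 : fRep k k w (monk k b m) = (-1 : k) ^ m • monk k b (b - m) := by
    funext z
    obtain ⟨x, y⟩ := z
    show (x * 0 + y * (-1)) ^ m * (x * 1 + y * 0) ^ (b - m) = (-1 : k) ^ m * (x ^ (b - m) * y ^ (b - (b - m)))
    rw [mul_zero, zero_add, mul_one, mul_zero, add_zero, Nat.sub_sub_self hm.1, mul_neg_one, neg_pow y m]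
    ring
  rw [h1]
  refine Submodule.smul_mem _ _ (monk_mem ⟨Nat.sub_le _ _, ?_⟩)
  rw [Nat.choose_symm hm.1]
  exact hm.2

theorem h_monk (a : kˣ) (b m : ℕ) : fRep k k (h a) (monk k b m) = ((a : k) ^ m * (a : k)⁻¹ ^ (b - m)) • monk k b m := by
  funext z
  obtain ⟨x, y⟩ := z
  show (x * a + y * 0) ^ m * (x * 0 + y * (a : k)⁻¹) ^ (b - m) = ((a : k) ^ m * (a : k)⁻¹ ^ (b - m)) * (x ^ m * y ^ (b - m))
  rw [mul_zero, add_zero, mul_zero, zero_add, mul_pow, mul_pow]
  ring

theorem L_inv (b : ℕ) (g : SpecialLinearGroup (Fin 2) k) : ∀ f ∈ L k b, fRep k k g f ∈ L k b := by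
  have key : ∀ g : SpecialLinearGroup (Fin 2) k, (∀ m ∈ Bb k b, fRep k k g (monk k b m) ∈ L k b) →
      ∀ f ∈ L k b, fRep k k g f ∈ L k b := by
    intro g hg f hf
    have h1 : L k b ≤ (L k b).comap (fRep k k g) := Submodule.span_le.2 (by
      rintro _ ⟨m, hm, rfl⟩
      exact hg m hm)
    exact h1 hf
  refine induct (P := fun g => ∀ f ∈ L k b, fRep k k g f ∈ L k b) ?_ ?_ ?_ ?_ g
  · intro t
    exact key _ fun m hm => u_monk t hm
  · intro a
    refine key _ fun m hm => ?_
    rw [h_monk]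
    exact Submodule.smul_mem _ _ (monk_mem hm)
  · exact key _ fun m hm => w_monk hm
  · intro a c ha hc f hf
    rw [map_mul]
    exact ha _ (hc _ hf)

end big

section restr

variable {k : Type*} [Field k] {F : Type*} [Field F] (ι : F →+* k)

/-- restriction -/
def res : (k × k → k) →ₗ[k] (F × F → k) where
  toFun f z := f (ι z.1, ι z.2)
  map_add' _ _ := rfl
  map_smul' _ _ := rfl

theorem res_fRep (g : SpecialLinearGroup (Fin 2) F) (f : k × k → k) :
    res ι (fRep k k (SpecialLinearGroup.map ι g) f) = fRep k F g (res ι f) := by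
  funext z
  show f (ι z.1 * ι (g.1 0 0) + ι z.2 * ι (g.1 1 0), ι z.1 * ι (g.1 0 1) + ι z.2 * ι (g.1 1 1)) =
    f (ι (z.1 * g.1 0 0 + z.2 * g.1 1 0), ι (z.1 * g.1 0 1 + z.2 * g.1 1 1))
  simp only [map_add, map_mul]

variable [Fintype F] [DecidableEq F] [DecidableEq k] (p : ℕ) [Fact p.Prime] [CharP k p] [CharP F p]

theorem res_monk (b m : ℕ) : res ι (monk k b m) = mon ι b m := rfl

include p in
/-- **the multiplicities of the eigenvalues of a semisimple element** -/
theorem finrank_eig_of_conj (hι : Function.Injective ι) (hodd : Odd (Fintype.card F)) {b : ℕ}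
    (hb : b ≤ Fintype.card F - 1) (g : SpecialLinearGroup (Fin 2) F) (P : SpecialLinearGroup (Fin 2) k) (μ : kˣ)
    (hP : SpecialLinearGroup.map ι g * P = P * h μ) (ν : k) :
    Module.finrank k (eig (rb ι p hodd hb) g ν) =
      ((Bf k b).filter fun m => (μ : k) ^ m * (μ : k)⁻¹ ^ (b - m) = ν).card := by
  let f : (Bf k b → k) →ₗ[k] Vb ι b :=
    { toFun := fun x => ⟨res ι (fRep k k P (∑ m : Bf k b, x m • monk k b m)), by
        have h1 : fRep k k P (∑ m : Bf k b, x m • monk k b m) ∈ L k b := L_inv b P _ (sum_mem fun m _ =>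
          Submodule.smul_mem _ _ (monk_mem (mem_Bf.1 m.2)))
        have h2 : L k b ≤ (Vb ι b).comap (res ι) := Submodule.span_le.2 (by
          rintro _ ⟨m, hm, rfl⟩
          exact mon_mem_Vb ι p hodd hb hm)
        exact h2 h1⟩
      map_add' := fun x y => Subtype.ext (by
        show res ι (fRep k k P (∑ m : Bf k b, (x m + y m) • monk k b m)) =
          res ι (fRep k k P (∑ m : Bf k b, x m • monk k b m)) + res ι (fRep k k P (∑ m : Bf k b, y m • monk k b m))
        rw [← map_add, ← map_add, ← Finset.sum_add_distrib]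
        congr 2
        exact Finset.sum_congr rfl fun m _ => add_smul _ _ _)
      map_smul' := fun c x => Subtype.ext (by
        show res ι (fRep k k P (∑ m : Bf k b, (c * x m) • monk k b m)) =
          c • res ι (fRep k k P (∑ m : Bf k b, x m • monk k b m))
        rw [← map_smul, ← map_smul, Finset.smul_sum]
        congr 2
        exact Finset.sum_congr rfl fun m _ => mul_smul _ _ _) }
  have hf : ∀ x, ((f x : Vb ι b) : F × F → k) = res ι (fRep k k P (∑ m : Bf k b, x m • monk k b m)) := fun _ => rfl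
  have hPP : ∀ y, fRep k k P (fRep k k P⁻¹ y) = y := fun y => by
    rw [← Module.End.mul_apply, ← map_mul, mul_inv_cancel, map_one, Module.End.one_apply]
  have hsurj : Function.Surjective f := by
    rw [← LinearMap.range_eq_top, eq_top_iff]
    rintro ⟨y, hy⟩ -
    have h1 : Submodule.span k (mon ι b '' Bb k b) ≤ (LinearMap.range f).map (Vb ι b).subtype := by
      refine Submodule.span_le.2 ?_
      rintro _ ⟨m, hm, rfl⟩
      have h2 : fRep k k P⁻¹ (monk k b m) ∈ L k b := L_inv b P⁻¹ _ (monk_mem hm)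
      have h3 : ∀ y ∈ L k b, ∃ x : Bf k b → k, y = ∑ m : Bf k b, x m • monk k b m := by
        intro y hy
        unfold L at hy
        induction hy using Submodule.span_induction with
        | mem x hx =>
          obtain ⟨m, hm, rfl⟩ := hx
          refine ⟨Pi.single ⟨m, mem_Bf.2 hm⟩ 1, ?_⟩
          rw [Finset.sum_eq_single (⟨m, mem_Bf.2 hm⟩ : Bf k b)]
          · rw [Pi.single_eq_same, one_smul]
          · intro m' _ hne
            rw [Pi.single_eq_of_ne hne, zero_smul]
          · intro h0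
            exact absurd (Finset.mem_univ _) h0
        | zero => exact ⟨0, by simp⟩
        | add x y _ _ hx hy =>
          obtain ⟨c, rfl⟩ := hx
          obtain ⟨c', rfl⟩ := hy
          refine ⟨c + c', ?_⟩
          rw [← Finset.sum_add_distrib]
          exact Finset.sum_congr rfl fun m _ => (add_smul _ _ _).symm
        | smul a x _ hx =>
          obtain ⟨c, rfl⟩ := hx
          refine ⟨a • c, ?_⟩
          rw [Finset.smul_sum]
          exact Finset.sum_congr rfl fun m _ => (mul_smul _ _ _).symm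
      obtain ⟨x, hx⟩ := h3 _ h2
      refine ⟨f x, ⟨_, rfl⟩, ?_⟩
      show ((f x : Vb ι b) : F × F → k) = _
      rw [hf, ← hx, hPP, res_monk]
    obtain ⟨z, ⟨x, rfl⟩, e⟩ := h1 (Vb_le ι b hy)
    exact ⟨x, Subtype.ext e⟩
  have hfd : FiniteDimensional k (Vb ι b) := Module.Finite.of_surjective f hsurj
  have hinj : Function.Injective f := by
    refine (LinearMap.injective_iff_surjective_of_finrank_eq_finrank ?_).2 hsurj
    rw [finrank_Vb ι p hι hodd hb, Module.finrank_fintype_fun_eq_card, Fintype.card_coe]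
  have h1 := finrank_diag (LinearEquiv.ofBijective f ⟨hinj, hsurj⟩) (rb ι p hodd hb g)
    (fun m => (μ : k) ^ (m : ℕ) * (μ : k)⁻¹ ^ (b - m)) (by
    intro x
    apply Subtype.ext
    show fRep k F g ((f x : Vb ι b) : F × F → k) = ((f _ : Vb ι b) : F × F → k)
    rw [hf, hf, ← res_fRep, ← Module.End.mul_apply, ← map_mul, hP, map_mul, Module.End.mul_apply, map_sum]
    congr 2
    refine Finset.sum_congr rfl fun m _ => ?_
    rw [map_smul, h_monk, smul_smul, mul_comm]) ν
  unfold eig
  rw [h1, Fintype.card_subtype]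
  rw [← Finset.card_map (Function.Embedding.subtype fun m => m ∈ Bf k b)]
  congr 1
  ext m
  simp only [Finset.mem_map, Finset.mem_filter, Finset.mem_univ, true_and, Function.Embedding.coe_subtype]
  constructor
  · rintro ⟨m', h2, rfl⟩
    exact ⟨m'.2, h2⟩
  · rintro ⟨h2, h3⟩
    exact ⟨⟨m, h2⟩, h3, rfl⟩

end restr

/-- **the element of order 41** -/
theorem exists_nonsplit {k : Type*} [Field k] [IsAlgClosed k] [CharP k 3] {F : Type*} [Field F] [Fintype F]
    (ι : F →+* k) (hF : Fintype.card F = 81) :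
    ∃ (c : SpecialLinearGroup (Fin 2) F) (P : SpecialLinearGroup (Fin 2) k) (μ : kˣ), c ^ 41 = 1 ∧
      IsPrimitiveRoot (μ : k) 41 ∧ SpecialLinearGroup.map ι c * P = P * h μ := by
  have h41 : NeZero ((41 : ℕ) : k) := ⟨by
    rw [Ne, CharP.cast_eq_zero_iff k 3]
    decide⟩
  obtain ⟨m, hm⟩ := HasEnoughRootsOfUnity.exists_primitiveRoot k 41
  have hm0 : m ≠ 0 := hm.ne_zero (by norm_num)
  have h3 : Fact (Nat.Prime 3) := ⟨Nat.prime_three⟩
  -- the trace
  have hmi : m ^ 81 = m⁻¹ := by
    apply eq_inv_of_mul_eq_one_left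
    rw [← pow_succ, show 81 + 1 = 41 * 2 by norm_num, pow_mul, hm.pow_eq_one, one_pow]
  have hfix : (m + m⁻¹) ^ 81 = m + m⁻¹ := by
    have h1 : (m + m⁻¹) ^ 3 ^ 4 = m ^ 3 ^ 4 + m⁻¹ ^ 3 ^ 4 := add_pow_char_pow m m⁻¹ 3 4
    have h2 : (3 : ℕ) ^ 4 = 81 := by norm_num
    rw [h2] at h1
    rw [h1, inv_pow, hmi, inv_inv, add_comm]
  obtain ⟨t, ht⟩ : ∃ t : F, ι t = m + m⁻¹ := by
    classical
    by_contra hcon
    push Not at hcon
    have h1 : (Polynomial.X ^ 81 - Polynomial.X : Polynomial k) = 0 := by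
      refine Polynomial.eq_zero_of_natDegree_lt_card_of_eval_eq_zero' _
        (insert (m + m⁻¹) (Finset.univ.image ι)) ?_ ?_
      · intro x hx
        rw [Finset.mem_insert, Finset.mem_image] at hx
        rw [Polynomial.eval_sub, Polynomial.eval_pow, Polynomial.eval_X, sub_eq_zero]
        rcases hx with rfl | ⟨y, -, rfl⟩
        · exact hfix
        · rw [← map_pow]
          congr 1
          have := FiniteField.pow_card y
          rwa [hF] at this
      · rw [Finset.card_insert_of_notMem (by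
          rw [Finset.mem_image]
          rintro ⟨y, -, hy⟩
          exact hcon y hy), Finset.card_image_of_injective _ ι.injective, Finset.card_univ, hF]
        refine lt_of_le_of_lt (b := 81) ?_ (by norm_num)
        compute_degree
    have h2 := congrArg (fun q => Polynomial.coeff q 81) h1
    simp [Polynomial.coeff_X] at h2
  have hd : m⁻¹ - m ≠ 0 := by
    intro h0
    have h1 : m ^ 2 = 1 := by
      have h2 : m⁻¹ = m := sub_eq_zero.1 h0
      rw [pow_two]
      nth_rewrite 2 [← h2]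
      exact mul_inv_cancel₀ hm0
    have h6 := hm.dvd_of_pow_eq_one 2 h1
    omega
  let δ : k := (m⁻¹ - m)⁻¹
  have hδ : (m⁻¹ - m) * δ = 1 := mul_inv_cancel₀ hd
  let c : SpecialLinearGroup (Fin 2) F := ⟨!![0, 1; -1, t], by simp [Matrix.det_fin_two]⟩
  let P : SpecialLinearGroup (Fin 2) k := ⟨!![1, δ; m, m⁻¹ * δ], by
    rw [Matrix.det_fin_two]
    simp only [Matrix.of_apply, Matrix.cons_val', Matrix.cons_val_zero, Matrix.cons_val_one, Matrix.cons_val_fin_one]
    linear_combination hδ⟩
  have hcP : SpecialLinearGroup.map ι c * P = P * h (Units.mk0 m hm0) := by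
    apply Subtype.ext
    rw [Matrix.SpecialLinearGroup.coe_mul, Matrix.SpecialLinearGroup.coe_mul]
    have h1 : (SpecialLinearGroup.map ι c).1 = !![0, 1; -1, m + m⁻¹] := by
      rw [← ht]
      ext i j
      fin_cases i <;> fin_cases j
      · exact map_zero ι
      · exact map_one ι
      · exact (map_neg ι 1).trans (by rw [map_one]; rfl)
      · rfl
    show (SpecialLinearGroup.map ι c).1 * !![1, δ; m, m⁻¹ * δ] = !![1, δ; m, m⁻¹ * δ] * !![m, 0; 0, m⁻¹]
    rw [h1, Matrix.mul_fin_two, Matrix.mul_fin_two]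
    ext i j
    fin_cases i <;> fin_cases j
    · simp
    · simp
      ring
    · simp
      field_simp
      ring
    · simp
      field_simp
      ring
  refine ⟨c, P, Units.mk0 m hm0, ?_, hm, hcP⟩
  -- the order
  have h1 : SpecialLinearGroup.map ι c = P * h (Units.mk0 m hm0) * P⁻¹ := by
    rw [← hcP, mul_inv_cancel_right]
  have h2 : (Units.mk0 m hm0) ^ 41 = 1 := by
    apply Units.ext
    rw [Units.val_pow_eq_pow_val, Units.val_mk0, hm.pow_eq_one, Units.val_one]
  have h4 : SpecialLinearGroup.map ι (c ^ 41) = 1 := by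
    rw [map_pow, h1, conj_pow, ← h_pow, h2, h_one, mul_one, mul_inv_cancel]
  have h5 : Function.Injective (SpecialLinearGroup.map (n := Fin 2) ι) := by
    intro a b hab
    apply Subtype.ext
    ext i j
    have h6 := congrFun (congrFun (congrArg Subtype.val hab) i) j
    exact ι.injective h6
  exact h5 (h4.trans (map_one _).symm)

theorem count41 {k : Type*} [Field k] [DecidableEq k] [CharP k 3] {μ : kˣ} (hμ : IsPrimitiveRoot (μ : k) 41) {b : ℕ}
    (hb : b ≤ 80) (hbe : Even b) {κ : ℕ} (hκ : κ < 41) :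
    ((Bf k b).filter fun m => (μ : k) ^ m * (μ : k)⁻¹ ^ (b - m) = ((μ : k) ^ 2) ^ κ).card =
      ((Cfsg.Agent.H943.Cert.digs 4 b).filter fun m => (m + 40 * (b / 2)) % 41 = κ).length := by
  have hμ0 : (μ : k) ≠ 0 := μ.ne_zero
  have hη : IsPrimitiveRoot ((μ : k) ^ 2) 41 := hμ.pow_of_coprime 2 (by norm_num)
  have h1 : ∀ m ∈ Bf k b, (μ : k) ^ m * (μ : k)⁻¹ ^ (b - m) = ((μ : k) ^ 2) ^ ((m + 40 * (b / 2)) % 41) := by
    intro m hm
    have hmb : m ≤ b := (mem_Bf.1 hm).1
    have h2 : ((μ : k) ^ 2) ^ ((m + 40 * (b / 2)) % 41) = ((μ : k) ^ 2) ^ (m + 40 * (b / 2)) := by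
      conv_rhs => rw [← Nat.div_add_mod (m + 40 * (b / 2)) 41]
      rw [pow_add, pow_mul, hη.pow_eq_one, one_pow, one_mul]
    rw [h2]
    have h3 : (μ : k) ^ (b - m) * (μ : k)⁻¹ ^ (b - m) = 1 := by
      rw [← mul_pow, mul_inv_cancel₀ hμ0, one_pow]
    have h4 : ((μ : k) ^ 2) ^ (m + 40 * (b / 2)) * (μ : k) ^ (b - m) = (μ : k) ^ m := by
      rw [← pow_mul, ← pow_add]
      have h5 : 2 * (m + 40 * (b / 2)) + (b - m) = m + 41 * b := by
        obtain ⟨c, rfl⟩ := hbe
        omega
      rw [h5, pow_add, pow_mul, hμ.pow_eq_one, one_pow, mul_one]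
    rw [← h4, mul_assoc, h3, mul_one]
  have h2 : ((Bf k b).filter fun m => (μ : k) ^ m * (μ : k)⁻¹ ^ (b - m) = ((μ : k) ^ 2) ^ κ) =
      (Bf k b).filter fun m => (m + 40 * (b / 2)) % 41 = κ := by
    refine Finset.filter_congr fun m hm => ?_
    rw [h1 m hm]
    constructor
    · intro h3
      exact hη.pow_inj (Nat.mod_lt _ (by norm_num)) hκ h3
    · intro h3
      rw [h3]
  have h3 : ((Cfsg.Agent.H943.Cert.digs 4 b).toFinset.filter fun m => (m + 40 * (b / 2)) % 41 = κ) =
      ((Cfsg.Agent.H943.Cert.digs 4 b).filter fun m => (m + 40 * (b / 2)) % 41 = κ).toFinset := by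
    ext m
    simp
  rw [h2, Cfsg.Agent.H943.Cert.Bf_eq (n := 4) (by omega), h3, List.toFinset_card_of_nodup]
  exact (Cfsg.Agent.H943.Cert.nodup_digs 4 b).filter _

end Cfsg.Agent.H940.E8L.NonSplit
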