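import Cfsg.Agent.H525.E8L.Iface2
import Cfsg.Agent.H940.E8L.NonSplit

/-!
# NONSPLIT (S5921; helper940)
-/

set_option autoImplicit false

namespace Cfsg.Agent.H940.E8L

open Cfsg.Agent.H525.E8L in
/-- **the element of order 41** -/
theorem nonSplitStmt : NonSplitStmt := by
  intro F _ _ _ _ k _ _ _ _ ι hF
  obtain ⟨c, P, μ, hc, hμ, hP⟩ := NonSplit.exists_nonsplit ι hF
  refine ⟨c, (μ : k) ^ 2, hc, hμ.pow_of_coprime 2 (by norm_num), ?_⟩
  intro b hb hbe κ hκ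
  have h3 : Fact (Nat.Prime 3) := ⟨Nat.prime_three⟩
  rw [NonSplit.finrank_eig_of_conj ι 3 ι.injective (odd_of hF) hb c P μ hP, NonSplit.count41 hμ (by omega) hbe hκ]
  rfl

end Cfsg.Agent.H940.E8L
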