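import Cfsg.Agent.H940.E8L.Rank

/-!
# The Hecke relation `Ot³ (Ot + 1) = 0` on the fixed vectors of the torus normaliser of `L₂(81)` (helper940, for S5921)

`Ot = ∑ Oi`; the `Oi` commute (Gelfand's trick), `Oi (Oi X) = - R X`, `Oi (R X) = - R X`.
-/

set_option autoImplicit false
set_option linter.unusedSectionVars false

namespace Cfsg.Agent.H940.E8L

open Matrix Cfsg.Agent.H943.SL2Rel Cfsg.Agent.H943.RepAdd

section psi

variable {k : Type*} [Field k] {F : Type*} [Field F] [Fintype F] (ι : F →+* k)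

/-- the coefficients -/
noncomputable def psi (i : ℕ) (x : F) : k := ι x ^ (80 - 2 * 3 ^ i)

theorem psi_mul (i : ℕ) (x y : F) : psi ι i (x * y) = psi ι i x * psi ι i y := by
  unfold psi
  rw [map_mul, mul_pow]

theorem psi_neg (i : ℕ) (x : F) : psi ι i (-x) = psi ι i x := by
  unfold psi
  rw [map_neg, Even.neg_pow]
  rcases Nat.le_total (2 * 3 ^ i) 80 with h0 | h0
  · exact (Nat.even_sub h0).2 (by simp [parity_simps])
  · rw [Nat.sub_eq_zero_of_le h0]
    exact Even.zero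

theorem psi_zero {i : ℕ} (hi : i < 4) : psi ι i 0 = 0 := by
  unfold psi
  rw [map_zero, zero_pow]
  interval_cases i <;> norm_num

theorem psi_one (i : ℕ) : psi ι i 1 = 1 := by
  unfold psi
  rw [map_one, one_pow]

theorem psi_eq (hc : Fintype.card F = 81) {i : ℕ} (hi : i < 4) (x : F) :
    psi ι i x = (ι (x ^ 26)) ^ 3 ^ (i + 1) := by
  unfold psi
  rcases eq_or_ne x 0 with rfl | hx
  · rw [zero_pow (by norm_num), map_zero, zero_pow (pow_ne_zero _ (by norm_num)), zero_pow]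
    interval_cases i <;> norm_num
  · have h80 := iota_pow ι hc (Units.mk0 x hx)
    rw [Units.val_mk0] at h80
    rw [map_pow, ← pow_mul]
    have h1 : 26 * 3 ^ (i + 1) = (80 - 2 * 3 ^ i) + 80 * (3 ^ i - 1) := by
      interval_cases i <;> norm_num
    rw [h1, pow_add, pow_mul (ι x) 80, h80, one_pow, mul_one]

theorem sum_eval (hc : Fintype.card F = 81) (p : Polynomial F) (hp : p.natDegree < 80) :
    ∑ b : F, p.eval b = 0 := by
  have h1 : ∀ b : F, p.eval b = ∑ n ∈ Finset.range 80, p.coeff n * b ^ n :=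
    fun b => Polynomial.eval_eq_sum_range' hp b
  rw [Finset.sum_congr rfl fun b _ => h1 b, Finset.sum_comm]
  refine Finset.sum_eq_zero fun n hn => ?_
  rw [← Finset.mul_sum, FiniteField.sum_pow_lt_card_sub_one, mul_zero]
  rw [hc]
  exact Finset.mem_range.1 hn

theorem sum_psi_two [CharP k 3] (hc : Fintype.card F = 81) {i : ℕ} (hi : i < 4) (α β γ δ : F) :
    ∑ b : F, psi ι i (α + β * b) * psi ι i (γ + δ * b) = 0 := by
  have : Fact (Nat.Prime 3) := ⟨Nat.prime_three⟩
  have h0 : ∑ b : F, ((α + β * b) ^ 26 * (γ + δ * b) ^ 26) = 0 := by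
    have h1 := sum_eval hc ((Polynomial.C α + Polynomial.C β * Polynomial.X) ^ 26 *
      (Polynomial.C γ + Polynomial.C δ * Polynomial.X) ^ 26) (by
        refine lt_of_le_of_lt (b := 52) ?_ (by norm_num)
        compute_degree)
    simpa using h1
  have h2 : ∑ b : F, psi ι i (α + β * b) * psi ι i (γ + δ * b) =
      (∑ b : F, ι ((α + β * b) ^ 26 * (γ + δ * b) ^ 26)) ^ 3 ^ (i + 1) := by
    rw [sum_pow_char_pow]
    refine Finset.sum_congr rfl fun b _ => ?_
    rw [psi_eq ι hc hi, psi_eq ι hc hi, map_mul, mul_pow]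
  rw [h2, ← map_sum, h0, map_zero, zero_pow (pow_ne_zero _ (by norm_num))]

theorem sum_psi_one [CharP k 3] (hc : Fintype.card F = 81) {i : ℕ} (hi : i < 4) (α β : F) :
    ∑ b : F, psi ι i (α + β * b) = 0 := by
  have h1 := sum_psi_two ι hc hi α β 1 0
  simpa [psi_one] using h1

/-- splitting off zero -/
theorem sum_F [DecidableEq F] {M : Type*} [AddCommMonoid M] (f : F → M) : ∑ t : F, f t = f 0 + ∑ a : Fˣ, f a := by
  classical
  rw [← Finset.add_sum_erase _ _ (Finset.mem_univ (0 : F))]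
  congr 1
  refine Finset.sum_bij' (fun t ht => Units.mk0 t (Finset.ne_of_mem_erase ht)) (fun a _ => (a : F))
    (fun _ _ => Finset.mem_univ _) (fun a _ => Finset.mem_erase.2 ⟨a.ne_zero, Finset.mem_univ _⟩) ?_ ?_ ?_
  · intro t ht; rfl
  · intro a _; exact Units.ext rfl
  · intro t ht; rfl

theorem card_units [DecidableEq F] (hc : Fintype.card F = 81) : Fintype.card Fˣ = 80 := by
  rw [Fintype.card_units, hc]

end psi

section ops

variable {k : Type*} [Field k] [CharP k 3] {F : Type*} [Field F] [Fintype F] [DecidableEq F] (ι : F →+* k)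
variable {V : Type*} [AddCommGroup V] [Module k V] (ρ : Representation k (SpecialLinearGroup (Fin 2) F) V)

theorem E2_psi (i : ℕ) (X : V) : E2 ι ρ i X = ∑ t : F, psi ι i t • ρ (u t) X := E2_apply ι ρ i X

/-- the sum over the unipotent group -/
noncomputable def sU (X : V) : V := ∑ t : F, ρ (u t) X

/-- the vectors of the big cell -/
noncomputable def br (X : V) (r t : F) : V := ρ (u r) (ρ w (ρ (u t) X))

theorem u_u (s t : F) (X : V) : ρ (u s) (ρ (u t) X) = ρ (u (s + t)) X := by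
  rw [← Module.End.mul_apply, ← map_mul, ← u_add]

theorem hu_apply (a : Fˣ) (t : F) (X : V) : ρ (h a) (ρ (u t) X) = ρ (u ((a : F) ^ 2 * t)) (ρ (h a) X) := by
  rw [← Module.End.mul_apply, ← map_mul, h_u, map_mul, Module.End.mul_apply]

theorem hw_apply (a : Fˣ) (X : V) : ρ (h a) (ρ w X) = ρ w (ρ (h a⁻¹) X) := by
  rw [← Module.End.mul_apply, ← map_mul, h_w, map_mul, Module.End.mul_apply]

theorem u_zero_apply (X : V) : ρ (u (0 : F)) X = X := by
  rw [u_zero, map_one, Module.End.one_apply]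

theorem u_sU (t : F) (X : V) : ρ (u t) (sU ρ X) = sU ρ X := by
  unfold sU
  rw [map_sum]
  exact Fintype.sum_bijective (fun s : F => t + s) (Equiv.addLeft t).bijective _ _ fun s => u_u ρ t s X

theorem h_sU {X : V} (hX : ∀ a : Fˣ, ρ (h a) X = X) (a : Fˣ) : ρ (h a) (sU ρ X) = sU ρ X := by
  unfold sU
  rw [map_sum]
  refine Fintype.sum_bijective (fun s : F => (a : F) ^ 2 * s) (mulLeft_bijective₀ _ (pow_ne_zero _ a.ne_zero)) _ _
    fun s => ?_
  rw [hu_apply, hX]

theorem sU_add (X Y : V) : sU ρ (X + Y) = sU ρ X + sU ρ Y := by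
  unfold sU
  rw [← Finset.sum_add_distrib]
  exact Finset.sum_congr rfl fun t _ => map_add _ _ _

theorem sU_neg (X : V) : sU ρ (-X) = -sU ρ X := by
  unfold sU
  rw [← Finset.sum_neg_distrib]
  exact Finset.sum_congr rfl fun t _ => map_neg _ _

theorem wuw_apply (a : Fˣ) (X : V) :
    ρ w (ρ (u (a : F)) (ρ w X)) = ρ (u (-(a : F)⁻¹)) (ρ (h (-a⁻¹)) (ρ w (ρ (u (-(a : F)⁻¹)) X))) := by
  have h1 := w_u_w (a : F) a.ne_zero
  have h2 : mi (a : F) a.ne_zero = -a⁻¹ := by
    apply Units.ext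
    rw [Units.val_neg, Units.val_inv_eq_inv_val]
    rfl
  rw [h2] at h1
  rw [← Module.End.mul_apply, ← Module.End.mul_apply, ← map_mul, ← map_mul, h1]
  simp only [map_mul, Module.End.mul_apply]

section two

variable (hneg : ρ (h (-1)) = 1)

include hneg in
theorem ww_apply (X : V) : ρ w (ρ w X) = X := by
  rw [← Module.End.mul_apply, ← map_mul, w_w, hneg, Module.End.one_apply]

/-- the Weyl element on the big cell -/
theorem w_br {X : V} (hX : ∀ a : Fˣ, ρ (h a) X = X) (a : Fˣ) (t : F) :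
    ρ w (br ρ X a t) = br ρ X (-(a : F)⁻¹) ((a : F) ^ 2 * t - a) := by
  have ha : (a : F) ≠ 0 := a.ne_zero
  unfold br
  rw [wuw_apply, u_u, hw_apply, hu_apply, hX]
  congr 4
  rw [inv_neg, inv_inv, Units.val_neg, neg_sq]
  field_simp
  ring_nf

include hneg in
theorem w_br_zero (X : V) (t : F) : ρ w (br ρ X 0 t) = ρ (u t) X := by
  unfold br
  rw [u_zero_apply, ww_apply ρ hneg]

theorem u_br (X : V) (s r t : F) : ρ (u s) (br ρ X r t) = br ρ X (s + r) t := by
  unfold br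
  rw [u_u]

variable (hc : Fintype.card F = 81)

include hc in
theorem E_sU {i : ℕ} (hi : i < 4) (X : V) : E2 ι ρ i (sU ρ X) = 0 := by
  rw [E2_psi, Finset.sum_congr rfl fun t _ => by rw [u_sU], ← Finset.sum_smul]
  have h1 := sum_psi_one ι hc hi 0 1
  simp only [zero_add, one_mul] at h1
  rw [h1, zero_smul]

include hc in
theorem E_E {i : ℕ} (hi : i < 4) (X : V) : E2 ι ρ i (E2 ι ρ i X) = 0 := by
  have h1 : E2 ι ρ i (E2 ι ρ i X) = ∑ s : F, ∑ t : F, (psi ι i s * psi ι i (t - s)) • ρ (u t) X := by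
    rw [E2_psi ι ρ i (E2 ι ρ i X)]
    refine Finset.sum_congr rfl fun s _ => ?_
    rw [E2_psi, map_sum, Finset.smul_sum]
    refine Fintype.sum_bijective (fun t : F => s + t) (Equiv.addLeft s).bijective _ _ fun t => ?_
    rw [map_smul, smul_smul, u_u, add_sub_cancel_left]
  rw [h1, Finset.sum_comm]
  refine Finset.sum_eq_zero fun t _ => ?_
  rw [← Finset.sum_smul]
  have h2 := sum_psi_two ι hc hi 0 1 t (-1)
  have h3 : ∑ s : F, psi ι i s * psi ι i (t - s) = 0 := by
    rw [← h2]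
    refine Finset.sum_congr rfl fun s _ => ?_
    congr 2
    · ring
    · ring
  rw [h3, zero_smul]

theorem EwE (i : ℕ) (X : V) : E2 ι ρ i (ρ w (E2 ι ρ i X)) = ∑ r : F, ∑ t : F, psi ι i (r * t) • br ρ X r t := by
  rw [E2_psi]
  refine Finset.sum_congr rfl fun r _ => ?_
  rw [E2_psi, map_sum, map_sum, Finset.smul_sum]
  refine Finset.sum_congr rfl fun t _ => ?_
  rw [map_smul, map_smul, smul_smul, psi_mul]
  rfl

/-- `w E w E X` -/
theorem wEwE {i : ℕ} (hi : i < 4) {X : V} (hX : ∀ a : Fˣ, ρ (h a) X = X) :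
    ρ w (E2 ι ρ i (ρ w (E2 ι ρ i X))) = ∑ b : Fˣ, ∑ t : F, psi ι i (1 - b * t) • br ρ X b t := by
  rw [EwE, map_sum, sum_F]
  have h0 : ρ w (∑ t : F, psi ι i (0 * t) • br ρ X 0 t) = 0 := by
    rw [Finset.sum_eq_zero, map_zero]
    intro t _
    rw [zero_mul, psi_zero ι hi, zero_smul]
  rw [h0, zero_add]
  refine Fintype.sum_bijective (fun a : Fˣ => -a⁻¹) ?_ _ _ fun a => ?_
  · exact ((Equiv.inv Fˣ).trans (Equiv.neg Fˣ)).bijective
  · rw [map_sum]
    have ha : (a : F) ≠ 0 := a.ne_zero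
    refine Fintype.sum_bijective (fun t : F => (a : F) ^ 2 * t - a) ?_ _ _ fun t => ?_
    · constructor
      · intro x y hxy
        have h1 : (a : F) ^ 2 * x = (a : F) ^ 2 * y := sub_left_injective hxy
        exact mul_left_cancel₀ (pow_ne_zero 2 ha) h1
      · intro y
        refine ⟨((a : F) ^ 2)⁻¹ * (y + a), ?_⟩
        show (a : F) ^ 2 * (((a : F) ^ 2)⁻¹ * (y + a)) - a = y
        rw [← mul_assoc, mul_inv_cancel₀ (pow_ne_zero 2 ha), one_mul, add_sub_cancel_right]
    · rw [map_smul, w_br ρ hX]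
      have h1 : ((-a⁻¹ : Fˣ) : F) = -(a : F)⁻¹ := by rw [Units.val_neg, Units.val_inv_eq_inv_val]
      rw [h1]
      congr 2
      field_simp
      ring

include hc in
/-- **the triple product** -/
theorem EwEwE {i : ℕ} (hi : i < 4) {X : V} (hX : ∀ a : Fˣ, ρ (h a) X = X) :
    E2 ι ρ i (ρ w (E2 ι ρ i (ρ w (E2 ι ρ i X)))) = - E2 ι ρ i (ρ w (sU ρ X)) := by
  have h1 : E2 ι ρ i (ρ w (E2 ι ρ i (ρ w (E2 ι ρ i X)))) =
      ∑ r : F, ∑ t : F, (∑ b : Fˣ, psi ι i (r - b) * psi ι i (1 - b * t)) • br ρ X r t := by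
    rw [wEwE ι ρ hi hX, E2_psi]
    have h2 : ∀ r : F, psi ι i r • ρ (u r) (∑ b : Fˣ, ∑ t : F, psi ι i (1 - b * t) • br ρ X b t) =
        ∑ b : Fˣ, ∑ t : F, (psi ι i r * psi ι i (1 - b * t)) • br ρ X (r + b) t := by
      intro r
      rw [map_sum, Finset.smul_sum]
      refine Finset.sum_congr rfl fun b _ => ?_
      rw [map_sum, Finset.smul_sum]
      refine Finset.sum_congr rfl fun t _ => ?_
      rw [map_smul, u_br, smul_smul]
    rw [Finset.sum_congr rfl fun r _ => h2 r, Finset.sum_comm]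
    have h3 : ∀ b : Fˣ, ∑ r : F, ∑ t : F, (psi ι i r * psi ι i (1 - b * t)) • br ρ X (r + b) t =
        ∑ r : F, ∑ t : F, (psi ι i (r - b) * psi ι i (1 - b * t)) • br ρ X r t := by
      intro b
      refine Fintype.sum_bijective (fun r : F => r + b) (Equiv.addRight (b : F)).bijective _ _ fun r => ?_
      refine Finset.sum_congr rfl fun t _ => ?_
      rw [add_sub_cancel_right]
    rw [Finset.sum_congr rfl fun b _ => h3 b, Finset.sum_comm]
    refine Finset.sum_congr rfl fun r _ => ?_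
    rw [Finset.sum_comm]
    refine Finset.sum_congr rfl fun t _ => ?_
    rw [Finset.sum_smul]
  have h2 : E2 ι ρ i (ρ w (sU ρ X)) = ∑ r : F, ∑ t : F, psi ι i r • br ρ X r t := by
    rw [E2_psi]
    refine Finset.sum_congr rfl fun r _ => ?_
    unfold sU
    rw [map_sum, map_sum, Finset.smul_sum]
    rfl
  rw [h1, h2, ← Finset.sum_neg_distrib]
  refine Finset.sum_congr rfl fun r _ => ?_
  rw [← Finset.sum_neg_distrib]
  refine Finset.sum_congr rfl fun t _ => ?_
  rw [← neg_smul]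
  congr 1
  have h3 := sum_psi_two ι hc hi r (-1) 1 (-t)
  rw [sum_F] at h3
  simp only [mul_zero, add_zero, psi_one, mul_one] at h3
  rw [eq_neg_iff_add_eq_zero, ← h3, add_comm]
  congr 1
  refine Finset.sum_congr rfl fun b _ => ?_
  congr 2
  · ring
  · ring

/-- the vector `w P` under `w u(a)`, `P` fixed by the Borel subgroup -/
theorem w_u_w_fix {P : V} (hU : ∀ t : F, ρ (u t) P = P) (hH : ∀ a : Fˣ, ρ (h a) P = P) (a : Fˣ) :
    ρ w (ρ (u (a : F)) (ρ w P)) = ρ (u (-(a : F)⁻¹)) (ρ w P) := by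
  rw [wuw_apply, hU, hw_apply, hH]

include hc in
theorem EwEwP {i : ℕ} (hi : i < 4) {P : V} (hU : ∀ t : F, ρ (u t) P = P) (hH : ∀ a : Fˣ, ρ (h a) P = P) :
    E2 ι ρ i (ρ w (E2 ι ρ i (ρ w P))) = - sU ρ (ρ w P) := by
  have h1 : ρ w (E2 ι ρ i (ρ w P)) = ∑ a : Fˣ, psi ι i a • ρ (u (-(a : F)⁻¹)) (ρ w P) := by
    rw [E2_psi, sum_F, psi_zero ι hi, zero_smul, zero_add, map_sum]
    refine Finset.sum_congr rfl fun a _ => ?_
    rw [map_smul, w_u_w_fix ρ hU hH]
  have h2 : E2 ι ρ i (ρ w (E2 ι ρ i (ρ w P))) =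
      ∑ r : F, (∑ a : Fˣ, psi ι i (1 + r * a)) • ρ (u r) (ρ w P) := by
    rw [h1, map_sum]
    have h3 : ∀ a : Fˣ, E2 ι ρ i (psi ι i a • ρ (u (-(a : F)⁻¹)) (ρ w P)) =
        ∑ r : F, psi ι i (1 + r * a) • ρ (u r) (ρ w P) := by
      intro a
      have ha : (a : F) ≠ 0 := a.ne_zero
      rw [map_smul, E2_psi, Finset.smul_sum]
      refine Fintype.sum_bijective (fun r : F => r + -(a : F)⁻¹) (Equiv.addRight (-(a : F)⁻¹)).bijective _ _ fun r => ?_
      rw [u_u, smul_smul, ← psi_mul]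
      congr 2
      field_simp
      ring
    rw [Finset.sum_congr rfl fun a _ => h3 a, Finset.sum_comm]
    refine Finset.sum_congr rfl fun r _ => ?_
    rw [Finset.sum_smul]
  rw [h2]
  unfold sU
  rw [← Finset.sum_neg_distrib]
  refine Finset.sum_congr rfl fun r _ => ?_
  have h3 := sum_psi_one ι hc hi 1 r
  rw [sum_F, mul_zero, add_zero, psi_one] at h3
  have h4 : ∑ a : Fˣ, psi ι i (1 + r * a) = -1 := by
    rw [eq_neg_iff_add_eq_zero, add_comm]
    exact h3
  rw [h4, neg_one_smul]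

/-- the single Hecke operators -/
noncomputable def Oi (i : ℕ) : Module.End k V := -(F2 ι ρ i * E2 ι ρ i + ρ w * (F2 ι ρ i * E2 ι ρ i))

theorem Ot_eq : Ot ι ρ = ∑ i ∈ Finset.range 4, Oi ι ρ i := by
  unfold Ot Om Oi
  rw [Finset.mul_sum, ← Finset.sum_add_distrib, Finset.sum_neg_distrib]

include hneg in
theorem Oi_apply (i : ℕ) (X : V) :
    Oi ι ρ i X = -(ρ w (E2 ι ρ i (ρ w (E2 ι ρ i X))) + E2 ι ρ i (ρ w (E2 ι ρ i X))) := by
  show -(ρ w (E2 ι ρ i (ρ w (E2 ι ρ i X))) + ρ w (ρ w (E2 ι ρ i (ρ w (E2 ι ρ i X))))) = _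
  rw [ww_apply ρ hneg]

/-- the third power -/
noncomputable def Rr (X : V) : V := -sU ρ X + ρ w (sU ρ X) + sU ρ (ρ w (sU ρ X))

include hneg in
theorem w_S {P : V} (hU : ∀ t : F, ρ (u t) P = P) (hH : ∀ a : Fˣ, ρ (h a) P = P) :
    ρ w (sU ρ (ρ w P)) = P + (sU ρ (ρ w P) - ρ w P) := by
  have h1 : sU ρ (ρ w P) - ρ w P = ∑ a : Fˣ, ρ (u (a : F)) (ρ w P) := by
    unfold sU
    rw [sum_F, u_zero_apply, add_sub_cancel_left]
  rw [h1]
  unfold sU
  rw [sum_F, u_zero_apply, map_add, ww_apply ρ hneg, map_sum]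
  congr 1
  refine Fintype.sum_bijective (fun a : Fˣ => -a⁻¹) ((Equiv.inv Fˣ).trans (Equiv.neg Fˣ)).bijective _ _ fun a => ?_
  rw [w_u_w_fix ρ hU hH, Units.val_neg, Units.val_inv_eq_inv_val]

include hneg in
theorem S_Rr {X : V} (hX : ∀ a : Fˣ, ρ (h a) X = X) :
    ρ w (sU ρ (ρ w (sU ρ X))) + sU ρ (ρ w (sU ρ X)) = -Rr ρ X := by
  rw [w_S ρ hneg (fun t => u_sU ρ t X) (h_sU ρ hX)]
  unfold Rr
  have h3 : (3 : k) = 0 := by exact_mod_cast CharP.cast_eq_zero k 3
  have h4 : ∀ Y : V, Y + Y + Y = 0 := fun Y => by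
    have : (3 : k) • Y = 0 := by rw [h3, zero_smul]
    rw [← this]
    module
  have h5 := h4 (sU ρ (ρ w (sU ρ X)))
  generalize sU ρ (ρ w (sU ρ X)) = S at *
  generalize sU ρ X = P at *
  generalize ρ w P = Q at *
  have h6 : P + (S - Q) + S - -(-P + Q + S) = 0 := by
    rw [← h5]
    abel
  exact sub_eq_zero.1 h6

include hc hneg in
theorem Oi_Rr {i : ℕ} (hi : i < 4) {X : V} (hX : ∀ a : Fˣ, ρ (h a) X = X) : Oi ι ρ i (Rr ρ X) = -Rr ρ X := by
  have h1 : E2 ι ρ i (Rr ρ X) = E2 ι ρ i (ρ w (sU ρ X)) := by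
    unfold Rr
    rw [map_add, map_add, map_neg, E_sU ι ρ hc hi, E_sU ι ρ hc hi, neg_zero, zero_add, add_zero]
  rw [Oi_apply ι ρ hneg, h1, EwEwP ι ρ hc hi (fun t => u_sU ρ t X) (h_sU ρ hX), map_neg, ← neg_add, neg_neg,
    S_Rr ρ hneg hX]

include hc hneg in
theorem Oi_Oi {i : ℕ} (hi : i < 4) {X : V} (hX : ∀ a : Fˣ, ρ (h a) X = X) :
    Oi ι ρ i (Oi ι ρ i X) = -Rr ρ X := by
  have h1 : E2 ι ρ i (Oi ι ρ i X) = E2 ι ρ i (ρ w (sU ρ X)) := by
    rw [Oi_apply ι ρ hneg, map_neg, map_add, EwEwE ι ρ hc hi hX, E_E ι ρ hc hi, add_zero, neg_neg]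
  rw [Oi_apply ι ρ hneg i (Oi ι ρ i X), h1, EwEwP ι ρ hc hi (fun t => u_sU ρ t X) (h_sU ρ hX), map_neg, ← neg_add,
    neg_neg, S_Rr ρ hneg hX]

/-- the action of `Oi` in terms of the big cell -/
theorem Oi_br {i : ℕ} (hneg : ρ (h (-1)) = 1) (hi : i < 4) {X : V} (hX : ∀ a : Fˣ, ρ (h a) X = X) :
    Oi ι ρ i X = ρ w (sU ρ X) - ∑ r : F, ∑ t : F, (psi ι i (r * t) + psi ι i (1 - r * t)) • br ρ X r t := by
  have h1 : ∑ b : Fˣ, ∑ t : F, psi ι i (1 - b * t) • br ρ X b t + ρ w (sU ρ X) =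
      ∑ r : F, ∑ t : F, psi ι i (1 - r * t) • br ρ X r t := by
    rw [sum_F (fun r : F => ∑ t : F, psi ι i (1 - r * t) • br ρ X r t), add_comm]
    congr 1
    unfold sU
    rw [map_sum]
    refine Finset.sum_congr rfl fun t _ => ?_
    rw [zero_mul, sub_zero, psi_one, one_smul]
    unfold br
    rw [u_zero_apply]
  have h2 : ∑ r : F, ∑ t : F, (psi ι i (r * t) + psi ι i (1 - r * t)) • br ρ X r t =
      ∑ r : F, ∑ t : F, psi ι i (r * t) • br ρ X r t + ∑ r : F, ∑ t : F, psi ι i (1 - r * t) • br ρ X r t := by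
    rw [← Finset.sum_add_distrib]
    refine Finset.sum_congr rfl fun r _ => ?_
    rw [← Finset.sum_add_distrib]
    exact Finset.sum_congr rfl fun t _ => add_smul _ _ _
  rw [Oi_apply ι ρ hneg, wEwE ι ρ hi hX, EwE, h2, ← h1]
  abel

end two

end ops

/-! ### commutation -/

section conv

variable {k : Type*} [Field k] {G : Type*} [Group G] [Fintype G]
variable {V : Type*} [AddCommGroup V] [Module k V] (ρ : Representation k G V)

/-- the action of a function -/
noncomputable def op (f : G → k) : Module.End k V := ∑ g : G, f g • ρ g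

/-- the convolution -/
def cv (f f' : G → k) (g : G) : k := ∑ x : G, f x * f' (x⁻¹ * g)

theorem op_cv (f f' : G → k) : op ρ f * op ρ f' = op ρ (cv f f') := by
  unfold op cv
  rw [Finset.sum_mul]
  have h1 : ∀ x : G, (f x • ρ x) * ∑ g : G, f' g • ρ g = ∑ g : G, (f x * f' (x⁻¹ * g)) • ρ g := by
    intro x
    rw [Finset.mul_sum]
    refine Fintype.sum_bijective (fun g : G => x * g) (Group.mulLeft_bijective x) _ _ fun g => ?_
    rw [smul_mul_smul_comm, ← map_mul, inv_mul_cancel_left]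
  rw [Finset.sum_congr rfl fun x _ => h1 x, Finset.sum_comm]
  refine Finset.sum_congr rfl fun g _ => ?_
  rw [Finset.sum_smul]

/-- **Gelfand's trick** -/
theorem cv_anti {f f' : G → k} (τ : G ≃ G) (hτ : ∀ x y, τ (x * y) = τ y * τ x) (hf : ∀ x, f (τ x) = f x)
    (hf' : ∀ x, f' (τ x) = f' x) (g : G) : cv f f' (τ g) = cv f' f g := by
  have hinv : ∀ x, τ x⁻¹ = (τ x)⁻¹ := by
    have h1 : τ 1 = 1 := by
      have h2 := hτ 1 1
      rw [mul_one] at h2
      exact (left_eq_mul.1 h2)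
    intro x
    rw [eq_inv_iff_mul_eq_one, ← hτ, mul_inv_cancel, h1]
  unfold cv
  have h1 : ∑ x : G, f x * f' (x⁻¹ * τ g) = ∑ y : G, f y * f' (g * y⁻¹) := by
    refine (Fintype.sum_bijective τ τ.bijective _ _ fun y => ?_).symm
    rw [hf, ← hinv, ← hτ, hf']
  rw [h1]
  refine Fintype.sum_bijective (fun y : G => g * y⁻¹) ?_ _ _ fun y => ?_
  · exact ((Equiv.inv G).trans (Equiv.mulLeft g)).bijective
  · rw [mul_comm]
    congr 2
    group

end conv

section theta

variable {k : Type*} [Field k] {F : Type*} [Field F] [Fintype F] [DecidableEq F] (ι : F →+* k)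

/-- twisted transposition -/
def tau (κ : Fˣ) : SpecialLinearGroup (Fin 2) F ≃ SpecialLinearGroup (Fin 2) F where
  toFun g := ⟨!![g.1 0 0, (κ : F) * g.1 1 0; (κ : F)⁻¹ * g.1 0 1, g.1 1 1], by
    have h1 := g.2
    have h2 : (κ : F) ≠ 0 := κ.ne_zero
    rw [Matrix.det_fin_two] at h1 ⊢
    simp only [Matrix.of_apply, Matrix.cons_val', Matrix.cons_val_zero, Matrix.cons_val_one, Matrix.cons_val_fin_one]
    refine Eq.trans ?_ h1
    field_simp⟩
  invFun g := ⟨!![g.1 0 0, (κ : F) * g.1 1 0; (κ : F)⁻¹ * g.1 0 1, g.1 1 1], by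
    have h1 := g.2
    have h2 : (κ : F) ≠ 0 := κ.ne_zero
    rw [Matrix.det_fin_two] at h1 ⊢
    simp only [Matrix.of_apply, Matrix.cons_val', Matrix.cons_val_zero, Matrix.cons_val_one, Matrix.cons_val_fin_one]
    refine Eq.trans ?_ h1
    field_simp⟩
  left_inv g := by
    have h2 : (κ : F) ≠ 0 := κ.ne_zero
    apply Subtype.ext
    ext i j
    fin_cases i <;> fin_cases j <;> simp [h2]
  right_inv g := by
    have h2 : (κ : F) ≠ 0 := κ.ne_zero
    apply Subtype.ext
    ext i j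
    fin_cases i <;> fin_cases j <;> simp [h2]

theorem tau_val (κ : Fˣ) (g : SpecialLinearGroup (Fin 2) F) :
    (tau κ g).1 = !![g.1 0 0, (κ : F) * g.1 1 0; (κ : F)⁻¹ * g.1 0 1, g.1 1 1] := rfl

theorem tau_mul (κ : Fˣ) (x y : SpecialLinearGroup (Fin 2) F) : tau κ (x * y) = tau κ y * tau κ x := by
  have h2 : (κ : F) ≠ 0 := κ.ne_zero
  apply Subtype.ext
  rw [Matrix.SpecialLinearGroup.coe_mul, tau_val, tau_val, tau_val, Matrix.mul_fin_two,
    Matrix.SpecialLinearGroup.coe_mul]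
  simp only [Matrix.mul_apply, Fin.sum_univ_two]
  ext i j
  fin_cases i <;> fin_cases j <;> simp <;> field_simp

/-- the coefficients of the Hecke operators -/
noncomputable def theta (i : ℕ) (g : SpecialLinearGroup (Fin 2) F) : k :=
  psi ι i (g.1 0 0 * g.1 1 1) + psi ι i (g.1 0 1 * g.1 1 0) +
    ((if g.1 0 0 = 0 then 1 else 0) + (if g.1 0 1 = 0 then 1 else 0) + (if g.1 1 0 = 0 then 1 else 0) +
      (if g.1 1 1 = 0 then 1 else 0))

theorem theta_tau (i : ℕ) (κ : Fˣ) (g : SpecialLinearGroup (Fin 2) F) : theta ι i (tau κ g) = theta ι i g := by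
  have h2 : (κ : F) ≠ 0 := κ.ne_zero
  unfold theta
  rw [tau_val]
  simp only [Matrix.of_apply, Matrix.cons_val', Matrix.cons_val_zero, Matrix.cons_val_one, Matrix.cons_val_fin_one,
    mul_eq_zero, h2, inv_eq_zero, false_or]
  have h3 : (κ : F) * g.1 1 0 * ((κ : F)⁻¹ * g.1 0 1) = g.1 0 1 * g.1 1 0 := by
    field_simp
  rw [h3]
  ring

theorem theta_w (i : ℕ) (g : SpecialLinearGroup (Fin 2) F) : theta ι i (g * w) = theta ι i g := by
  have h1 : (g * w).1 = !![-g.1 0 1, g.1 0 0; -g.1 1 1, g.1 1 0] := by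
    rw [Matrix.SpecialLinearGroup.coe_mul]
    show g.1 * !![0, 1; -1, 0] = _
    ext i j
    fin_cases i <;> fin_cases j <;> simp [Matrix.mul_apply, Fin.sum_univ_two]
  unfold theta
  rw [h1]
  simp only [Matrix.of_apply, Matrix.cons_val', Matrix.cons_val_zero, Matrix.cons_val_one, Matrix.cons_val_fin_one,
    neg_eq_zero]
  have h3 : psi ι i (-g.1 0 1 * g.1 1 0) = psi ι i (g.1 0 1 * g.1 1 0) := by rw [neg_mul, psi_neg]
  have h4 : psi ι i (g.1 0 0 * -g.1 1 1) = psi ι i (g.1 0 0 * g.1 1 1) := by rw [mul_neg, psi_neg]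
  rw [h3, h4]
  ring

theorem theta_h (i : ℕ) (a : Fˣ) (g : SpecialLinearGroup (Fin 2) F) : theta ι i (g * h a) = theta ι i g := by
  have h2 : (a : F) ≠ 0 := a.ne_zero
  have h1 : (g * h a).1 = !![g.1 0 0 * a, g.1 0 1 * (a : F)⁻¹; g.1 1 0 * a, g.1 1 1 * (a : F)⁻¹] := by
    rw [Matrix.SpecialLinearGroup.coe_mul]
    show g.1 * !![(a : F), 0; 0, (a : F)⁻¹] = _
    ext i j
    fin_cases i <;> fin_cases j <;> simp [Matrix.mul_apply, Fin.sum_univ_two]
  unfold theta
  rw [h1]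
  simp only [Matrix.of_apply, Matrix.cons_val', Matrix.cons_val_zero, Matrix.cons_val_one, Matrix.cons_val_fin_one,
    mul_eq_zero, h2, inv_eq_zero, or_false]
  have h3 : g.1 0 0 * (a : F) * (g.1 1 1 * (a : F)⁻¹) = g.1 0 0 * g.1 1 1 := by
    field_simp
  have h4 : g.1 0 1 * (a : F)⁻¹ * (g.1 1 0 * (a : F)) = g.1 0 1 * g.1 1 0 := by
    field_simp
  rw [h3, h4]

theorem cv_w (f : SpecialLinearGroup (Fin 2) F → k) (i : ℕ) (g : SpecialLinearGroup (Fin 2) F) :
    cv f (theta ι i) (g * w) = cv f (theta ι i) g := by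
  unfold cv
  refine Finset.sum_congr rfl fun x _ => ?_
  rw [← mul_assoc, theta_w]

/-- **commutation** -/
theorem cv_comm (i j : ℕ) (g : SpecialLinearGroup (Fin 2) F) :
    cv (theta ι i) (theta ι j) g = cv (theta ι j) (theta ι i) g := by
  have key : ∀ (κ : Fˣ) (g : SpecialLinearGroup (Fin 2) F), tau κ g = g →
      cv (theta ι i) (theta ι j) g = cv (theta ι j) (theta ι i) g := by
    intro κ g hg
    conv_lhs => rw [← hg]
    exact cv_anti (tau κ) (tau_mul κ) (theta_tau ι i κ) (theta_tau ι j κ) g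
  have key2 : ∀ g : SpecialLinearGroup (Fin 2) F, g.1 0 1 ≠ 0 → g.1 1 0 ≠ 0 →
      cv (theta ι i) (theta ι j) g = cv (theta ι j) (theta ι i) g := by
    intro g hb hc
    refine key (Units.mk0 (g.1 0 1 * (g.1 1 0)⁻¹) (mul_ne_zero hb (inv_ne_zero hc))) g ?_
    apply Subtype.ext
    rw [tau_val, Units.val_mk0]
    ext i j
    fin_cases i <;> fin_cases j <;> simp [hb, hc]
  have hdet := g.2
  rw [Matrix.det_fin_two] at hdet
  by_cases hb : g.1 0 1 = 0
  · by_cases hc : g.1 1 0 = 0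
    · refine key 1 g ?_
      apply Subtype.ext
      rw [tau_val]
      ext i j
      fin_cases i <;> fin_cases j <;> simp [hb, hc]
    · rw [← cv_w ι (theta ι i) j g, ← cv_w ι (theta ι j) i g]
      rw [hb, zero_mul, sub_zero] at hdet
      refine key2 _ ?_ ?_
      · have h1 : (g * w).1 0 1 = g.1 0 0 := by
          rw [Matrix.SpecialLinearGroup.coe_mul]
          show (g.1 * !![(0 : F), 1; -1, 0]) 0 1 = _
          simp [Matrix.mul_apply, Fin.sum_univ_two]
        rw [h1]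
        exact left_ne_zero_of_mul_eq_one hdet
      · have h1 : (g * w).1 1 0 = -g.1 1 1 := by
          rw [Matrix.SpecialLinearGroup.coe_mul]
          show (g.1 * !![(0 : F), 1; -1, 0]) 1 0 = _
          simp [Matrix.mul_apply, Fin.sum_univ_two]
        rw [h1]
        exact neg_ne_zero.2 (right_ne_zero_of_mul_eq_one hdet)
  · by_cases hc : g.1 1 0 = 0
    · rw [← cv_w ι (theta ι i) j g, ← cv_w ι (theta ι j) i g]
      rw [hc, mul_zero, sub_zero] at hdet
      refine key2 _ ?_ ?_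
      · have h1 : (g * w).1 0 1 = g.1 0 0 := by
          rw [Matrix.SpecialLinearGroup.coe_mul]
          show (g.1 * !![(0 : F), 1; -1, 0]) 0 1 = _
          simp [Matrix.mul_apply, Fin.sum_univ_two]
        rw [h1]
        exact left_ne_zero_of_mul_eq_one hdet
      · have h1 : (g * w).1 1 0 = -g.1 1 1 := by
          rw [Matrix.SpecialLinearGroup.coe_mul]
          show (g.1 * !![(0 : F), 1; -1, 0]) 1 0 = _
          simp [Matrix.mul_apply, Fin.sum_univ_two]
        rw [h1]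
        exact neg_ne_zero.2 (right_ne_zero_of_mul_eq_one hdet)
    · exact key2 g hb hc

/-! ### the sum over the Bruhat cells -/

theorem val_b (x : F) (a : Fˣ) : (u x * h a).1 = !![(a : F), x * (a : F)⁻¹; 0, (a : F)⁻¹] := by
  rw [Matrix.SpecialLinearGroup.coe_mul]
  show !![1, x; 0, 1] * !![(a : F), 0; 0, (a : F)⁻¹] = _
  rw [Matrix.mul_fin_two]
  simp

theorem val_c (r t : F) (a : Fˣ) : (u r * w * u t * h a).1 =
    !![-r * a, (1 - r * t) * (a : F)⁻¹; -(a : F), -t * (a : F)⁻¹] := by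
  rw [Matrix.SpecialLinearGroup.coe_mul, Matrix.SpecialLinearGroup.coe_mul, Matrix.SpecialLinearGroup.coe_mul]
  show !![1, r; 0, 1] * !![0, 1; -1, 0] * !![1, t; 0, 1] * !![(a : F), 0; 0, (a : F)⁻¹] = _
  rw [Matrix.mul_fin_two, Matrix.mul_fin_two, Matrix.mul_fin_two]
  ext i j
  fin_cases i <;> fin_cases j <;> simp
  ring

theorem bruhat_sum {M : Type*} [AddCommMonoid M] (Φ : SpecialLinearGroup (Fin 2) F → M) :
    ∑ g, Φ g = (∑ a : Fˣ, ∑ x : F, Φ (u x * h a)) + ∑ a : Fˣ, ∑ r : F, ∑ t : F, Φ (u r * w * u t * h a) := by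
  let e : (Fˣ × F) ⊕ (Fˣ × F × F) → SpecialLinearGroup (Fin 2) F :=
    Sum.elim (fun p => u p.2 * h p.1) (fun p => u p.2.1 * w * u p.2.2 * h p.1)
  have he : Function.Bijective e := by
    constructor
    · rintro (⟨a, x⟩ | ⟨a, r, t⟩) (⟨a', x'⟩ | ⟨a', r', t'⟩) h0
      · have h1 : (u x * h a).1 = (u x' * h a').1 := congrArg Subtype.val h0
        rw [val_b, val_b] at h1
        have h2 : (a : F) = a' := by simpa using congrFun (congrFun h1 0) 0
        have h3 : x * (a : F)⁻¹ = x' * (a' : F)⁻¹ := by simpa using congrFun (congrFun h1 0) 1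
        have h4 : a = a' := Units.ext h2
        subst h4
        have h5 := mul_right_cancel₀ (inv_ne_zero a.ne_zero) h3
        rw [h5]
      · exfalso
        have h1 : (u x * h a).1 = (u r' * w * u t' * h a').1 := congrArg Subtype.val h0
        rw [val_b, val_c] at h1
        have h2 : (0 : F) = -(a' : F) := by simpa using congrFun (congrFun h1 1) 0
        exact neg_ne_zero.2 a'.ne_zero h2.symm
      · exfalso
        have h1 : (u r * w * u t * h a).1 = (u x' * h a').1 := congrArg Subtype.val h0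
        rw [val_b, val_c] at h1
        have h2 : -(a : F) = 0 := by simpa using congrFun (congrFun h1 1) 0
        exact neg_ne_zero.2 a.ne_zero h2
      · have h1 : (u r * w * u t * h a).1 = (u r' * w * u t' * h a').1 := congrArg Subtype.val h0
        rw [val_c, val_c] at h1
        have h2 : -(a : F) = -(a' : F) := congrFun (congrFun h1 1) 0
        have h3 : -r * (a : F) = -r' * (a' : F) := congrFun (congrFun h1 0) 0
        have h4 : -t * (a : F)⁻¹ = -t' * (a' : F)⁻¹ := congrFun (congrFun h1 1) 1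
        have h5 : a = a' := Units.ext (neg_injective h2)
        subst h5
        have h6 := neg_injective (mul_right_cancel₀ a.ne_zero h3)
        have h7 := neg_injective (mul_right_cancel₀ (inv_ne_zero a.ne_zero) h4)
        rw [h6, h7]
    · intro g
      have hdet := g.2
      rw [Matrix.det_fin_two] at hdet
      by_cases hc : g.1 1 0 = 0
      · rw [hc, mul_zero, sub_zero] at hdet
        have ha := left_ne_zero_of_mul_eq_one hdet
        refine ⟨Sum.inl (Units.mk0 _ ha, g.1 0 1 * g.1 0 0), Subtype.ext ?_⟩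
        show (u _ * h _).1 = _
        rw [val_b, Units.val_mk0]
        ext i j
        fin_cases i <;> fin_cases j
        · rfl
        · simp [ha]
        · simp [hc]
        · simp
          exact (eq_inv_of_mul_eq_one_right hdet).symm
      · refine ⟨Sum.inr (Units.mk0 (-g.1 1 0) (neg_ne_zero.2 hc), g.1 0 0 * (g.1 1 0)⁻¹, g.1 1 1 * g.1 1 0),
          Subtype.ext ?_⟩
        show (u _ * w * u _ * h _).1 = _
        rw [val_c, Units.val_mk0]
        ext i j
        fin_cases i <;> fin_cases j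
        · simp [hc]
        · simp
          field_simp
          linear_combination hdet
        · simp
        · simp [hc]
  rw [← Fintype.sum_bijective e he (fun p => Φ (e p)) Φ (fun _ => rfl), Fintype.sum_sum_type,
    Fintype.sum_prod_type, Fintype.sum_prod_type]
  congr 1
  refine Finset.sum_congr rfl fun a _ => ?_
  rw [Fintype.sum_prod_type]
  rfl

theorem theta_u (i : ℕ) (hi : i < 4) (x : F) : theta ι i (u x) = 2 + if x = 0 then 1 else 0 := by
  unfold theta
  show psi ι i ((1 : F) * 1) + psi ι i (x * 0) + ((if (1 : F) = 0 then 1 else 0) + (if x = 0 then 1 else 0) +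
    (if (0 : F) = 0 then 1 else 0) + (if (1 : F) = 0 then 1 else 0)) = _
  rw [mul_one, mul_zero, psi_one, psi_zero ι hi]
  simp only [one_ne_zero, if_false, if_true]
  ring

theorem theta_c (i : ℕ) (r t : F) : theta ι i (u r * w * u t) = psi ι i (r * t) + psi ι i (1 - r * t) +
    ((if r = 0 then 1 else 0) + (if r * t = 1 then 1 else 0) + if t = 0 then 1 else 0) := by
  have h1 : (u r * w * u t).1 = !![-r, 1 - r * t; -1, -t] := by
    have h2 := val_c r t 1
    rw [h_one, mul_one] at h2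
    rw [h2]
    simp
  unfold theta
  rw [h1]
  show psi ι i (-r * -t) + psi ι i ((1 - r * t) * -1) + ((if -r = 0 then 1 else 0) +
    (if 1 - r * t = 0 then 1 else 0) + (if (-1 : F) = 0 then 1 else 0) + (if -t = 0 then 1 else 0)) = _
  rw [neg_mul_neg, mul_neg_one, psi_neg]
  simp only [neg_eq_zero, one_ne_zero, zero_ne_one, if_false, sub_eq_zero, eq_comm (a := (1 : F))]
  ring

end theta

section final

variable {k : Type*} [Field k] [CharP k 3] {F : Type*} [Field F] [Fintype F] [DecidableEq F] (ι : F →+* k)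
variable {V : Type*} [AddCommGroup V] [Module k V] (ρ : Representation k (SpecialLinearGroup (Fin 2) F) V)
variable (hc : Fintype.card F = 81) (hneg : ρ (h (-1)) = 1)

theorem three (k : Type*) [Field k] [CharP k 3] {V : Type*} [AddCommGroup V] [Module k V] (Y : V) : Y + Y + Y = 0 := by
  have h3 : (3 : k) = 0 := by exact_mod_cast CharP.cast_eq_zero k 3
  have : (3 : k) • Y = 0 := by rw [h3, zero_smul]
  rw [← this]
  module

theorem sum_const_units (k : Type*) [Field k] [CharP k 3] {F : Type*} [Field F] [Fintype F] [DecidableEq F]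
    {V : Type*} [AddCommGroup V] [Module k V] (hc : Fintype.card F = 81) (Y : V) : ∑ _a : Fˣ, Y = -Y := by
  rw [Finset.sum_const, Finset.card_univ, card_units hc, eq_neg_iff_add_eq_zero, ← succ_nsmul,
    show 80 + 1 = 27 * 3 by norm_num, mul_nsmul']
  have h1 : 3 • Y = 0 := by
    rw [← three k Y]
    abel
  rw [h1, nsmul_zero]

include hc hneg in
/-- **the Hecke operators as group ring elements** -/
theorem op_theta {i : ℕ} (hi : i < 4) {X : V} (hX : ∀ a : Fˣ, ρ (h a) X = X) (hw : ρ w X = X) :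
    op ρ (theta ι i) X = Oi ι ρ i X := by
  have h1 : op ρ (theta ι i) X = ∑ g, theta ι i g • ρ g X := by
    unfold op
    rw [LinearMap.sum_apply]
    rfl
  have h2 : ∀ (g : SpecialLinearGroup (Fin 2) F) (a : Fˣ),
      theta ι i (g * h a) • ρ (g * h a) X = theta ι i g • ρ g X := by
    intro g a
    rw [theta_h, map_mul, Module.End.mul_apply, hX]
  rw [h1, bruhat_sum]
  simp only [h2]
  rw [sum_const_units k hc, sum_const_units k hc, Oi_br ι ρ hneg hi hX]
  -- the cells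
  have hA : ∑ x : F, theta ι i (u x) • ρ (u x) X = sU ρ X + sU ρ X + X := by
    have h3 : ∀ x : F, theta ι i (u x) • ρ (u x) X = (ρ (u x) X + ρ (u x) X) + if x = 0 then X else 0 := by
      intro x
      rw [theta_u ι i hi]
      by_cases hx : x = 0
      · rw [if_pos hx, if_pos hx, hx, u_zero_apply]
        module
      · rw [if_neg hx, if_neg hx]
        module
    rw [Finset.sum_congr rfl fun x _ => h3 x, Finset.sum_add_distrib, Finset.sum_add_distrib, Finset.sum_ite_eq' Finset.univ (0 : F),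
      if_pos (Finset.mem_univ _)]
    rfl
  have hB : ∑ r : F, ∑ t : F, theta ι i (u r * w * u t) • ρ (u r * w * u t) X =
      ∑ r : F, ∑ t : F, (psi ι i (r * t) + psi ι i (1 - r * t)) • br ρ X r t +
      (ρ w (sU ρ X) + (ρ w (sU ρ X) - X) + sU ρ X) := by
    have h3 : ∀ r t : F, theta ι i (u r * w * u t) • ρ (u r * w * u t) X =
        (psi ι i (r * t) + psi ι i (1 - r * t)) • br ρ X r t + ((if r = 0 then br ρ X r t else 0) +
          (if r * t = 1 then br ρ X r t else 0) + if t = 0 then br ρ X r t else 0) := by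
      intro r t
      have h4 : ρ (u r * w * u t) X = br ρ X r t := by
        unfold br
        rw [map_mul, map_mul, Module.End.mul_apply, Module.End.mul_apply]
      rw [h4, theta_c, add_smul (psi ι i (r * t) + psi ι i (1 - r * t))]
      congr 1
      rw [add_smul, add_smul]
      simp only [ite_smul, one_smul, zero_smul]
    have h5 : ∑ r : F, ∑ t : F, (if r = 0 then br ρ X r t else 0) = ρ w (sU ρ X) := by
      rw [sum_F]
      have h6 : ∑ a : Fˣ, ∑ t : F, (if (a : F) = 0 then br ρ X a t else 0) = 0 := by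
        refine Finset.sum_eq_zero fun a _ => Finset.sum_eq_zero fun t _ => ?_
        rw [if_neg a.ne_zero]
      rw [h6, add_zero]
      unfold sU
      rw [map_sum]
      refine Finset.sum_congr rfl fun t _ => ?_
      rw [if_pos rfl]
      unfold br
      rw [u_zero_apply]
    have h7 : ∑ r : F, ∑ t : F, (if t = 0 then br ρ X r t else 0) = sU ρ X := by
      unfold sU
      refine Finset.sum_congr rfl fun r _ => ?_
      rw [Finset.sum_ite_eq' Finset.univ (0 : F), if_pos (Finset.mem_univ _)]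
      unfold br
      rw [u_zero_apply, hw]
    have h8 : ∑ r : F, ∑ t : F, (if r * t = 1 then br ρ X r t else 0) = ρ w (sU ρ X) - X := by
      have h9 : ρ w (sU ρ X) - X = ∑ a : Fˣ, ρ w (ρ (u (a : F)) X) := by
        unfold sU
        rw [sum_F, u_zero_apply, map_add, map_sum, hw, add_sub_cancel_left]
      rw [h9, sum_F]
      have h10 : ∑ t : F, (if (0 : F) * t = 1 then br ρ X 0 t else 0) = 0 := by
        refine Finset.sum_eq_zero fun t _ => ?_
        rw [zero_mul, if_neg zero_ne_one]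
      rw [h10, zero_add]
      symm
      refine Fintype.sum_bijective (fun a : Fˣ => -a⁻¹) ((Equiv.inv Fˣ).trans (Equiv.neg Fˣ)).bijective _ _
        fun a => ?_
      have h11 := w_br ρ hX a 0
      have h12 : br ρ X a 0 = ρ (u (a : F)) X := by
        unfold br
        rw [u_zero_apply, hw]
      rw [h12, mul_zero, zero_sub] at h11
      have h13 : ((-a⁻¹ : Fˣ) : F) = -(a : F)⁻¹ := by rw [Units.val_neg, Units.val_inv_eq_inv_val]
      rw [Finset.sum_eq_single (-(a : F))]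
      · rw [h13, neg_mul_neg, inv_mul_cancel₀ a.ne_zero, if_pos rfl]
        exact h11
      · intro t _ ht
        rw [if_neg]
        rw [h13]
        intro h14
        apply ht
        have h15 : (a : F) ≠ 0 := a.ne_zero
        field_simp at h14
        exact (neg_eq_iff_eq_neg.1 h14)
      · intro h14
        exact absurd (Finset.mem_univ _) h14
    rw [Finset.sum_congr rfl fun r _ => Finset.sum_congr rfl fun t _ => h3 r t]
    simp only [Finset.sum_add_distrib]
    rw [h5, h7, h8]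
  rw [hA, hB]
  generalize ∑ r : F, ∑ t : F, (psi ι i (r * t) + psi ι i (1 - r * t)) • br ρ X r t = Y
  have hP := three k (sU ρ X)
  have hQ := three k (ρ w (sU ρ X))
  generalize sU ρ X = P at *
  generalize ρ w P = Q at *
  have h6 : -(P + P + X) + -(Y + (Q + (Q - X) + P)) - (Q - Y) = 0 := by
    rw [show -(P + P + X) + -(Y + (Q + (Q - X) + P)) - (Q - Y) = -(P + P + P) - (Q + Q + Q) by abel, hP, hQ]
    simp
  exact sub_eq_zero.1 h6

theorem add_cube {R : Type*} [Ring R] (h3 : (3 : R) = 0) {x y : R} (hxy : x * y = y * x) :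
    (x + y) * (x + y) * (x + y) = x * x * x + y * y * y := by
  have h1 : (x + y) * (x + y) * (x + y) = x * x * x + y * y * y + 3 * (x * x * y + x * y * y) +
      ((x * (y * x) - x * (x * y)) + (y * x - x * y) * x + (x * (y * x) - x * (x * y)) + (y * x - x * y) * y +
        (y * x - x * y) * y + ((y * (y * x) - y * (x * y)))) := by
    noncomm_ring
  rw [h1, h3, hxy]
  simp only [sub_self, zero_mul, add_zero]

include hc hneg in
theorem Oi_mem {i : ℕ} (hi : i < 4) {X : V} (hX : X ∈ A0 ρ) : Oi ι ρ i X ∈ A0 ρ := by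
  obtain ⟨h1, h2⟩ := hX
  have hZ : ∀ a : Fˣ, ρ (h a) (E2 ι ρ i (ρ w (E2 ι ρ i X))) = E2 ι ρ i (ρ w (E2 ι ρ i X)) := by
    intro a
    rw [h_E2 ι ρ hc hi, hw_apply, h_E2 ι ρ hc hi, h1, map_smul, map_smul, smul_smul]
    have h3 : ι (a : F) ^ (4 * 3 ^ i) * ι ((a⁻¹ : Fˣ) : F) ^ (4 * 3 ^ i) = 1 := by
      rw [← mul_pow, ← map_mul, ← Units.val_mul, mul_inv_cancel, Units.val_one, map_one, one_pow]
    rw [h3, one_smul]
  rw [Oi_apply ι ρ hneg]
  refine ⟨fun a => ?_, ?_⟩
  · rw [map_neg, map_add, hw_apply, hZ, hZ]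
  · rw [map_neg, map_add, ww_apply ρ hneg, add_comm]

include hc hneg in
theorem Oi_comm {i j : ℕ} (hi : i < 4) (hj : j < 4) {X : V} (hX : X ∈ A0 ρ) :
    Oi ι ρ i (Oi ι ρ j X) = Oi ι ρ j (Oi ι ρ i X) := by
  have h1 := Oi_mem ι ρ hc hneg hi hX
  have h2 := Oi_mem ι ρ hc hneg hj hX
  rw [← op_theta ι ρ hc hneg hi h2.1 h2.2, ← op_theta ι ρ hc hneg hj hX.1 hX.2,
    ← op_theta ι ρ hc hneg hj h1.1 h1.2, ← op_theta ι ρ hc hneg hi hX.1 hX.2, ← Module.End.mul_apply,
    ← Module.End.mul_apply, op_cv, op_cv]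
  congr 2
  funext g
  exact cv_comm ι i j g

include hc hneg in
/-- **the third power of the Hecke operator** -/
theorem Ot_cube {X : V} (hX : X ∈ A0 ρ) : Ot ι ρ (Ot ι ρ (Ot ι ρ X)) = Rr ρ X := by
  let O : Fin 4 → Module.End k (A0 ρ) := fun i => (Oi ι ρ i).restrict fun X hX => Oi_mem ι ρ hc hneg i.2 hX
  have hO : ∀ (i : Fin 4) (Y : A0 ρ), ((O i Y : A0 ρ) : V) = Oi ι ρ i (Y : V) := fun _ _ => rfl
  have hcomm : ∀ i j, O i * O j = O j * O i := by
    intro i j
    ext Y
    exact Oi_comm ι ρ hc hneg i.2 j.2 Y.2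
  have h3 : (3 : Module.End k (A0 ρ)) = 0 := by
    have h4 : (3 : k) = 0 := by exact_mod_cast CharP.cast_eq_zero k 3
    have h5 : algebraMap k (Module.End k (A0 ρ)) 3 = 3 := map_ofNat _ 3
    rw [← h5, h4, map_zero]
  have hcube : ∀ (i : Fin 4) (Y : A0 ρ), (((O i * O i * O i) Y : A0 ρ) : V) = Rr ρ (Y : V) := by
    intro i Y
    show Oi ι ρ i (Oi ι ρ i (Oi ι ρ i (Y : V))) = _
    rw [Oi_Oi ι ρ hneg hc i.2 Y.2.1, map_neg, Oi_Rr ι ρ hneg hc i.2 Y.2.1, neg_neg]
  have hsum : (O 0 + O 1 + O 2 + O 3) * (O 0 + O 1 + O 2 + O 3) * (O 0 + O 1 + O 2 + O 3) =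
      O 0 * O 0 * O 0 + O 1 * O 1 * O 1 + O 2 * O 2 * O 2 + O 3 * O 3 * O 3 := by
    rw [add_cube h3 (x := O 0 + O 1 + O 2) (y := O 3), add_cube h3 (x := O 0 + O 1) (y := O 2),
      add_cube h3 (x := O 0) (y := O 1)]
    · exact hcomm 0 1
    · rw [add_mul, mul_add, hcomm 0 2, hcomm 1 2]
    · rw [add_mul, add_mul, mul_add, mul_add, hcomm 0 3, hcomm 1 3, hcomm 2 3]
  have hOt : ∀ Y : A0 ρ, (((O 0 + O 1 + O 2 + O 3) Y : A0 ρ) : V) = Ot ι ρ (Y : V) := by
    intro Y
    rw [Ot_eq, LinearMap.sum_apply, Finset.sum_range]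
    rw [Fin.sum_univ_four]
    rfl
  have h5 := congrArg Subtype.val (LinearMap.congr_fun hsum ⟨X, hX⟩)
  have h6 : (((O 0 + O 1 + O 2 + O 3) * (O 0 + O 1 + O 2 + O 3) * (O 0 + O 1 + O 2 + O 3)) ⟨X, hX⟩ : A0 ρ).1 =
      Ot ι ρ (Ot ι ρ (Ot ι ρ X)) := by
    rw [Module.End.mul_apply, Module.End.mul_apply, hOt, hOt, hOt]
  rw [h6] at h5
  rw [h5]
  show ((O 0 * O 0 * O 0) ⟨X, hX⟩ : A0 ρ).1 + ((O 1 * O 1 * O 1) ⟨X, hX⟩ : A0 ρ).1 +
    ((O 2 * O 2 * O 2) ⟨X, hX⟩ : A0 ρ).1 + ((O 3 * O 3 * O 3) ⟨X, hX⟩ : A0 ρ).1 = _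
  rw [hcube, hcube, hcube, hcube, three k (Rr ρ X), zero_add]

include hc hneg in
theorem Ot_Rr {X : V} (hX : X ∈ A0 ρ) : Ot ι ρ (Rr ρ X) = -Rr ρ X := by
  rw [Ot_eq, LinearMap.sum_apply, Finset.sum_congr rfl fun i hi =>
    Oi_Rr ι ρ hneg hc (Finset.mem_range.1 hi) hX.1, Finset.sum_const, Finset.card_range]
  have h1 := three k (-Rr ρ X)
  rw [show (4 : ℕ) • -Rr ρ X = (-Rr ρ X + -Rr ρ X + -Rr ρ X) + -Rr ρ X by abel, h1, zero_add]

end final

/-- **the Hecke relation** -/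
theorem hecke {k : Type*} [Field k] [CharP k 3] {F : Type*} [Field F] [Fintype F] (ι : F →+* k) {V : Type*}
    [AddCommGroup V] [Module k V] (ρ : Representation k (SpecialLinearGroup (Fin 2) F) V)
    (hc : Fintype.card F = 81) (hneg : ρ (h (-1)) = 1) {X : V} (hX : X ∈ A0 ρ) :
    Ot ι ρ (Ot ι ρ (Ot ι ρ (Ot ι ρ X + X))) = 0 := by
  classical
  rw [map_add, map_add, map_add, Ot_cube ι ρ hc hneg hX, Ot_Rr ι ρ hc hneg hX, neg_add_cancel]

end Cfsg.Agent.H940.E8L
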