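import Cfsg.Agent.H940.E8L.EigFun
import Cfsg.Agent.H943.SL2Rel

/-!
# `L₂(81)`: the operators `E₂ i`, `F₂ i`, `Om`, `Ot` and the rank inequality `4 a ≤ 3 c` (helper940, for S5921)
-/

set_option autoImplicit false
set_option linter.unusedSectionVars false

namespace Cfsg.Agent.H940.E8L

open Matrix Cfsg.Agent.H943.SL2Rel Cfsg.Agent.H943.RepAdd

variable {k : Type*} [Field k] {F : Type*} [Field F] [Fintype F] (ι : F →+* k)
variable {V : Type*} [AddCommGroup V] [Module k V] (ρ : Representation k (SpecialLinearGroup (Fin 2) F) V)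

/-- the operator `∑ t ^ (80 - 2 * 3 ^ i) u(t)` -/
noncomputable def E2 (i : ℕ) : Module.End k V := ∑ t : F, ι t ^ (80 - 2 * 3 ^ i) • ρ (u t)

/-- its conjugate by `w` -/
noncomputable def F2 (i : ℕ) : Module.End k V := ρ w * E2 ι ρ i * ρ w

/-- the operator `∑ F₂ i E₂ i` -/
noncomputable def Om : Module.End k V := ∑ i ∈ Finset.range 4, F2 ι ρ i * E2 ι ρ i

/-- the Hecke operator -/
noncomputable def Ot : Module.End k V := -(Om ι ρ + ρ w * Om ι ρ)

theorem E2_apply (i : ℕ) (X : V) : E2 ι ρ i X = ∑ t : F, ι t ^ (80 - 2 * 3 ^ i) • ρ (u t) X := by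
  unfold E2
  rw [LinearMap.sum_apply]
  rfl

theorem F2_apply (i : ℕ) (X : V) : F2 ι ρ i X = ρ w (E2 ι ρ i (ρ w X)) := rfl

theorem Om_apply (X : V) : Om ι ρ X = ∑ i ∈ Finset.range 4, ρ w (E2 ι ρ i (ρ w (E2 ι ρ i X))) := by
  unfold Om
  rw [LinearMap.sum_apply]
  rfl

theorem Ot_apply (X : V) : Ot ι ρ X = -(Om ι ρ X + ρ w (Om ι ρ X)) := rfl

/-- the fixed vectors of the normaliser of the torus -/
def A0 : Submodule k V where
  carrier := {X | (∀ a : Fˣ, ρ (h a) X = X) ∧ ρ w X = X}
  zero_mem' := ⟨fun a => map_zero _, map_zero _⟩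
  add_mem' := fun {x y} hx hy => ⟨fun a => by rw [map_add, hx.1, hy.1], by rw [map_add, hx.2, hy.2]⟩
  smul_mem' := fun c x hx => ⟨fun a => by rw [map_smul, hx.1], by rw [map_smul, hx.2]⟩

theorem mem_A0 {X : V} : X ∈ A0 ρ ↔ (∀ a : Fˣ, ρ (h a) X = X) ∧ ρ w X = X := Iff.rfl

variable (hc : Fintype.card F = 81)

include hc in
theorem iota_pow (a : Fˣ) : ι (a : F) ^ 80 = 1 := by
  have h1 : (a : F) ^ 80 = 1 := by
    have := FiniteField.pow_card_sub_one_eq_one (a : F) a.ne_zero
    rwa [hc] at this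
  rw [← map_pow, h1, map_one]

theorem le80 {i : ℕ} (hi : i < 4) : 2 * 3 ^ i ≤ 80 := by
  interval_cases i <;> norm_num

include hc in
/-- the torus scales `E₂ i` -/
theorem h_E2 {i : ℕ} (hi : i < 4) (a : Fˣ) (X : V) :
    ρ (h a) (E2 ι ρ i X) = ι (a : F) ^ (4 * 3 ^ i) • E2 ι ρ i (ρ (h a) X) := by
  have ha : ι (a : F) ≠ 0 := (map_ne_zero ι).2 a.ne_zero
  have h80 := iota_pow ι hc a
  have hle := le80 hi
  rw [E2_apply, E2_apply, map_sum, Finset.smul_sum]
  refine Fintype.sum_bijective (fun t : F => (a : F) ^ 2 * t) ?_ _ _ fun t => ?_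
  · exact mulLeft_bijective₀ _ (pow_ne_zero _ a.ne_zero)
  · rw [map_smul, ← Module.End.mul_apply, ← map_mul, h_u, map_mul, Module.End.mul_apply, smul_smul]
    congr 1
    rw [map_mul, mul_pow, map_pow, ← pow_mul, ← mul_assoc, ← pow_add]
    have h1 : 4 * 3 ^ i + 2 * (80 - 2 * 3 ^ i) = 80 * 2 := by omega
    rw [h1, pow_mul, h80, one_pow, one_mul]

/-- the adjoint of `E₂ i` -/
theorem E2_adj {B : V →ₗ[k] V →ₗ[k] k} (hB : ∀ g x y, B (ρ g x) (ρ g y) = B x y) {i : ℕ} (x y : V) :
    B (E2 ι ρ i x) y = B x (E2 ι ρ i y) := by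
  rw [E2_apply, E2_apply, map_sum, LinearMap.sum_apply, map_sum]
  refine Fintype.sum_bijective (fun t : F => -t) (neg_involutive.bijective) _ _ fun t => ?_
  rw [map_smul, LinearMap.smul_apply, map_smul, map_neg, Even.neg_pow]
  · congr 1
    have h1 := hB (u t) x (ρ (u (-t)) y)
    rw [← Module.End.mul_apply, ← map_mul, ← u_add, add_neg_cancel, u_zero, map_one, Module.End.one_apply] at h1
    exact h1
  · rcases Nat.le_total (2 * 3 ^ i) 80 with h0 | h0
    · exact (Nat.even_sub h0).2 (by simp [parity_simps])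
    · rw [Nat.sub_eq_zero_of_le h0]
      exact Even.zero

theorem adj {G : Type*} [Group G] {ρ : Representation k G V} {B : V →ₗ[k] V →ₗ[k] k}
    (hB : ∀ g x y, B (ρ g x) (ρ g y) = B x y) (g : G) (x y : V) : B (ρ g x) y = B x (ρ g⁻¹ y) := by
  have h1 := hB g x (ρ g⁻¹ y)
  rwa [← Module.End.mul_apply, ← map_mul, mul_inv_cancel, map_one, Module.End.one_apply] at h1

theorem inv_fix {G : Type*} [Group G] {ρ : Representation k G V} {g : G} {x : V} (hx : ρ g x = x) : ρ g⁻¹ x = x := by
  conv_lhs => rw [← hx]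
  rw [← Module.End.mul_apply, ← map_mul, inv_mul_cancel, map_one, Module.End.one_apply]

theorem B_Om {B : V →ₗ[k] V →ₗ[k] k} (hB : ∀ g x y, B (ρ g x) (ρ g y) = B x y) {X Y : V} (hY : ρ w Y = Y) :
    B (Om ι ρ X) Y = ∑ i ∈ Finset.range 4, B (ρ w (E2 ι ρ i X)) (E2 ι ρ i Y) := by
  rw [Om_apply, map_sum, LinearMap.sum_apply]
  refine Finset.sum_congr rfl fun i _ => ?_
  rw [adj hB, inv_fix hY, E2_adj ι ρ hB]

theorem B_Ot [CharP k 3] {B : V →ₗ[k] V →ₗ[k] k} (hB : ∀ g x y, B (ρ g x) (ρ g y) = B x y) {X Y : V}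
    (hY : ρ w Y = Y) : B (Ot ι ρ X) Y = ∑ i ∈ Finset.range 4, B (ρ w (E2 ι ρ i X)) (E2 ι ρ i Y) := by
  rw [Ot_apply, map_neg, LinearMap.neg_apply, map_add, LinearMap.add_apply, adj hB, inv_fix hY, B_Om ι ρ hB hY]
  have h3 : (3 : k) = 0 := by exact_mod_cast CharP.cast_eq_zero k 3
  linear_combination -(∑ i ∈ Finset.range 4, B (ρ w (E2 ι ρ i X)) (E2 ι ρ i Y)) * h3

include hc in
theorem h_Om (a : Fˣ) (X : V) : ρ (h a) (Om ι ρ X) = Om ι ρ (ρ (h a) X) := by
  have ha : ι (a : F) ≠ 0 := (map_ne_zero ι).2 a.ne_zero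
  rw [Om_apply, Om_apply, map_sum]
  refine Finset.sum_congr rfl fun i hi => ?_
  have hi' := Finset.mem_range.1 hi
  have hw : ∀ (b : Fˣ) (x : V), ρ (h b) (ρ w x) = ρ w (ρ (h b⁻¹) x) := fun b x => by
    rw [← Module.End.mul_apply, ← map_mul, h_w, map_mul, Module.End.mul_apply]
  rw [hw, h_E2 ι ρ hc hi', map_smul, hw, inv_inv, h_E2 ι ρ hc hi', map_smul, map_smul, map_smul, smul_smul]
  have h1 : ι ((a⁻¹ : Fˣ) : F) ^ (4 * 3 ^ i) * ι (a : F) ^ (4 * 3 ^ i) = 1 := by
    rw [← mul_pow, ← map_mul, ← Units.val_mul, inv_mul_cancel, Units.val_one, map_one, one_pow]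
  rw [h1, one_smul]

include hc in
/-- `Ot` preserves `A0` -/
theorem Ot_mem (hneg : ρ (h (-1)) = 1) {X : V} (hX : X ∈ A0 ρ) : Ot ι ρ X ∈ A0 ρ := by
  obtain ⟨h1, h2⟩ := hX
  have hO : ∀ a : Fˣ, ρ (h a) (Om ι ρ X) = Om ι ρ X := fun a => by rw [h_Om ι ρ hc, h1]
  have hw : ∀ (b : Fˣ) (x : V), ρ (h b) (ρ w x) = ρ w (ρ (h b⁻¹) x) := fun b x => by
    rw [← Module.End.mul_apply, ← map_mul, h_w, map_mul, Module.End.mul_apply]
  have hww : ∀ x : V, ρ w (ρ w x) = x := fun x => by
    rw [← Module.End.mul_apply, ← map_mul, w_w, hneg, Module.End.one_apply]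
  refine ⟨fun a => ?_, ?_⟩
  · rw [Ot_apply, map_neg, map_add, hw, hO, hO]
  · rw [Ot_apply, map_neg, map_add, hww, add_comm]

/-- `E₂ i` maps `A0` into an eigenspace -/
theorem E2_mem (hc : Fintype.card F = 81) {i : ℕ} (hi : i < 4) (a : Fˣ) {X : V} (hX : X ∈ A0 ρ) :
    E2 ι ρ i X ∈ eig ρ (h a) (ι (a : F) ^ (4 * 3 ^ i)) := by
  rw [mem_eig, h_E2 ι ρ hc hi, hX.1]

/-- nilpotent of index `3` -/
theorem finrank_le_three {W : Type*} [AddCommGroup W] [Module k W] [FiniteDimensional k W] (N : Module.End k W)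
    (hN : N * N * N = 0) : Module.finrank k W ≤ 3 * Module.finrank k (LinearMap.ker N) := by
  have key : ∀ (A B : Module.End k W), Module.finrank k (LinearMap.ker (A * B)) ≤
      Module.finrank k (LinearMap.ker A) + Module.finrank k (LinearMap.ker B) := by
    intro A B
    let f : LinearMap.ker (A * B) →ₗ[k] LinearMap.ker A := B.restrict (fun x hx => by
      rw [LinearMap.mem_ker] at hx ⊢
      exact hx)
    have h1 := LinearMap.finrank_range_add_finrank_ker f
    have h2 : Module.finrank k (LinearMap.range f) ≤ Module.finrank k (LinearMap.ker A) := Submodule.finrank_le _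
    have h3 : Module.finrank k (LinearMap.ker f) ≤ Module.finrank k (LinearMap.ker B) := by
      refine LinearMap.finrank_le_finrank_of_injective (f := ({
        toFun := fun x => ⟨((x : LinearMap.ker (A * B)) : W), ?_⟩
        map_add' := fun x y => rfl
        map_smul' := fun c x => rfl } : LinearMap.ker f →ₗ[k] LinearMap.ker B)) ?_
      · have h4 : f x = 0 := x.2
        have h5 := congrArg Subtype.val h4
        exact h5
      · intro x y e
        apply Subtype.ext
        apply Subtype.ext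
        exact congrArg (fun z : LinearMap.ker B => (z : W)) e
    omega
  have h1 := key (N * N) N
  have h2 := key N N
  rw [hN] at h1
  rw [LinearMap.ker_zero, finrank_top] at h1
  omega

include hc in
theorem h_pow80 (lam : Fˣ) : (h lam) ^ 80 = 1 := by
  rw [← h_pow]
  have h1 : lam ^ 80 = 1 := by
    apply Units.ext
    have := FiniteField.pow_card_sub_one_eq_one (lam : F) lam.ne_zero
    rw [hc] at this
    rw [Units.val_pow_eq_pow_val, this, Units.val_one]
  rw [h1, h_one]

include hc in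
/-- **the rank inequality** -/
theorem rank_le [CharP k 3] [FiniteDimensional k V] (hneg : ρ (h (-1)) = 1) {B : V →ₗ[k] V →ₗ[k] k}
    (hB : ∀ g x y, B (ρ g x) (ρ g y) = B x y) (hnd : ∀ x, (∀ y, B x y = 0) → x = 0)
    (h3 : ∀ X ∈ A0 ρ, Ot ι ρ (Ot ι ρ (Ot ι ρ X)) = 0)
    (hinj : ∀ X ∈ A0 ρ, (∀ i < 4, E2 ι ρ i X = 0) → X = 0) (lam : Fˣ) :
    4 * Module.finrank k (A0 ρ) ≤
      3 * ∑ i ∈ Finset.range 4, Module.finrank k (eig ρ (h lam) (ι (lam : F) ^ (4 * 3 ^ i))) := by
  classical
  let μ : Fin 4 → k := fun i => ι (lam : F) ^ (4 * 3 ^ (i : ℕ))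
  have hμ80 : ∀ i, μ i ^ 80 = 1 := fun i => by
    show (ι (lam : F) ^ (4 * 3 ^ (i : ℕ))) ^ 80 = 1
    rw [← pow_mul, mul_comm, pow_mul, iota_pow ι hc, one_pow]
  have hμ0 : ∀ i, μ i ≠ 0 := fun i => pow_ne_zero _ ((map_ne_zero ι).2 lam.ne_zero)
  have h80 : ((80 : ℕ) : k) ≠ 0 := by
    have h3 : (3 : k) = 0 := by exact_mod_cast CharP.cast_eq_zero k 3
    intro h0
    have h1 : (1 : k) = 0 := by
      push_cast at h0
      linear_combination 27 * h3 - h0
    exact one_ne_zero h1
  let U := (i : Fin 4) → eig ρ (h lam) (μ i)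
  have hU : Module.finrank k U = ∑ i ∈ Finset.range 4, Module.finrank k (eig ρ (h lam) (ι (lam : F) ^ (4 * 3 ^ i))) := by
    rw [Module.finrank_pi_fintype, Finset.sum_range]
  -- the form on `U`
  let β : U →ₗ[k] Module.Dual k U :=
    { toFun := fun x =>
        { toFun := fun y => ∑ i, B (ρ w (x i : V)) (y i : V)
          map_add' := fun y z => by
            rw [← Finset.sum_add_distrib]
            refine Finset.sum_congr rfl fun i _ => ?_
            rw [Pi.add_apply, Submodule.coe_add, map_add]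
          map_smul' := fun c y => by
            rw [RingHom.id_apply, Finset.smul_sum]
            refine Finset.sum_congr rfl fun i _ => ?_
            rw [Pi.smul_apply, Submodule.coe_smul, map_smul] }
      map_add' := fun x z => by
        refine LinearMap.ext fun y => ?_
        show ∑ i, B (ρ w ((x + z) i : V)) (y i : V) = ∑ i, B (ρ w (x i : V)) (y i : V) + ∑ i, B (ρ w (z i : V)) (y i : V)
        rw [← Finset.sum_add_distrib]
        refine Finset.sum_congr rfl fun i _ => ?_
        rw [Pi.add_apply, Submodule.coe_add, map_add, map_add, LinearMap.add_apply]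
      map_smul' := fun c x => by
        refine LinearMap.ext fun y => ?_
        show ∑ i, B (ρ w ((c • x) i : V)) (y i : V) = c • ∑ i, B (ρ w (x i : V)) (y i : V)
        rw [Finset.smul_sum]
        refine Finset.sum_congr rfl fun i _ => ?_
        rw [Pi.smul_apply, Submodule.coe_smul, map_smul, map_smul, LinearMap.smul_apply] }
  have hβ : ∀ x y : U, β x y = ∑ i, B (ρ w (x i : V)) (y i : V) := fun _ _ => rfl
  have hβinj : Function.Injective β := by
    rw [injective_iff_map_eq_zero]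
    intro x hx
    funext i
    have h1 : ∀ v ∈ eig ρ (h lam) (μ i), B (ρ w (x i : V)) v = 0 := by
      intro v hv
      have h2 := LinearMap.congr_fun hx (Pi.single i ⟨v, hv⟩)
      rw [hβ, Finset.sum_eq_single i] at h2
      · rw [Pi.single_eq_same] at h2
        exact h2
      · intro j _ hj
        rw [Pi.single_eq_of_ne hj, Submodule.coe_zero, map_zero]
      · intro hi
        exact absurd (Finset.mem_univ _) hi
    have h2 : ρ w (x i : V) ∈ eig ρ (h lam) (μ i)⁻¹ := by
      have h4 := (mem_eig ρ).1 (x i).2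
      rw [mem_eig]
      have h5 : ρ (h lam⁻¹) (x i : V) = (μ i)⁻¹ • (x i : V) := by
        have h6 : ρ (h lam⁻¹) (ρ (h lam) (x i : V)) = (x i : V) := by
          rw [← Module.End.mul_apply, ← map_mul, ← h_mul, inv_mul_cancel, h_one, map_one, Module.End.one_apply]
        rw [h4, map_smul] at h6
        conv_rhs => rw [← h6]
        rw [smul_smul, inv_mul_cancel₀ (hμ0 i), one_smul]
      rw [← Module.End.mul_apply, ← map_mul, h_w, map_mul, Module.End.mul_apply, h5, map_smul]
    have h4 : ρ w (x i : V) = 0 := by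
      apply hnd
      intro y
      rw [← proj_of_mem ρ h80 (inv_ne_zero (hμ0 i)) h2, proj_adj hB (h lam) 80 (h_pow80 hc lam)
        (by rw [inv_pow, hμ80, inv_one]), inv_inv]
      exact h1 _ (proj_mem ρ (by rw [← map_pow, h_pow80 hc, map_one]) (hμ80 i) (hμ0 i) y)
    apply Subtype.ext
    have h5 : ρ w⁻¹ (ρ w (x i : V)) = (x i : V) := by
      rw [← Module.End.mul_apply, ← map_mul, inv_mul_cancel, map_one, Module.End.one_apply]
    rw [← h5, h4, map_zero]
    rfl
  have hβsurj : Function.Surjective β :=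
    (LinearMap.injective_iff_surjective_of_finrank_eq_finrank (Subspace.dual_finrank_eq).symm).1 hβinj
  -- the map `Θ`
  let Θ : A0 ρ →ₗ[k] U :=
    { toFun := fun X i => ⟨E2 ι ρ i (X : V), E2_mem ι ρ hc i.2 lam X.2⟩
      map_add' := fun X Y => by
        funext i
        apply Subtype.ext
        show E2 ι ρ i ((X : V) + (Y : V)) = _
        rw [map_add]
        rfl
      map_smul' := fun c X => by
        funext i
        apply Subtype.ext
        show E2 ι ρ i (c • (X : V)) = _
        rw [map_smul]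
        rfl }
  have hΘ : Function.Injective Θ := by
    rw [injective_iff_map_eq_zero]
    intro X hX
    apply Subtype.ext
    refine hinj X X.2 fun i hi => ?_
    have h1 := congrFun hX ⟨i, hi⟩
    exact congrArg Subtype.val h1
  let f : U →ₗ[k] Module.Dual k (A0 ρ) := Θ.dualMap.comp β
  have hf : Function.Surjective f := (LinearMap.dualMap_surjective_of_injective hΘ).comp hβsurj
  have hfk : Module.finrank k (LinearMap.ker f) + Module.finrank k (A0 ρ) = Module.finrank k U := by
    have h1 := LinearMap.finrank_range_add_finrank_ker f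
    rw [LinearMap.range_eq_top.2 hf, finrank_top, Subspace.dual_finrank_eq] at h1
    omega
  -- the operator on `A0`
  let N : Module.End k (A0 ρ) := (Ot ι ρ).restrict fun X hX => Ot_mem ι ρ hc hneg hX
  have hN : N * N * N = 0 := by
    ext X
    exact h3 X X.2
  have hNk : Module.finrank k (LinearMap.ker N) ≤ Module.finrank k (LinearMap.ker f) := by
    refine LinearMap.finrank_le_finrank_of_injective (f := (Θ.comp (LinearMap.ker N).subtype).codRestrict
      (LinearMap.ker f) ?_) ?_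
    · intro X
      rw [LinearMap.mem_ker]
      ext Y
      have h1 : N X = 0 := X.2
      have h2 : Ot ι ρ ((X : A0 ρ) : V) = 0 := congrArg Subtype.val h1
      have h4 := B_Ot ι ρ hB (X := ((X : A0 ρ) : V)) Y.2.2
      rw [h2, map_zero, LinearMap.zero_apply, Finset.sum_range] at h4
      exact h4.symm
    · intro X Y e
      apply Subtype.ext
      apply hΘ
      exact congrArg Subtype.val e
  have h4 := finrank_le_three N hN
  rw [← hU]
  omega

end Cfsg.Agent.H940.E8L
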