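import Cfsg.Agent.H940.E8L.Pressure

/-!
# Eigenvalue multiplicities as an additive function; duality (helper940, for S5921)

* `finrank_eig_iso` : isomorphic representations have the same multiplicities;
* `eigFun` : an integer combination of multiplicities of eigenvalues of `p'`-elements and of the dimension;
* `finrank_eig_perp` : `V / N^⊥` is dual to `N`.
-/

set_option autoImplicit false

namespace Cfsg.Agent.H940.E8L

open Cfsg.Agent.H943.RepAdd

universe u v w x

variable {k : Type u} [Field k] {G : Type v} [Group G]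

theorem finrank_eig_iso {V₁ V₂ : Type*} [AddCommGroup V₁] [Module k V₁] [AddCommGroup V₂] [Module k V₂]
    (ρ₁ : Representation k G V₁) (ρ₂ : Representation k G V₂)
    (φ : V₁ ≃ₗ[k] V₂) (h : ∀ g x, φ (ρ₁ g x) = ρ₂ g (φ x)) (g : G) (μ : k) :
    Module.finrank k (eig ρ₁ g μ) = Module.finrank k (eig ρ₂ g μ) := by
  have h1 : ∀ x, x ∈ eig ρ₁ g μ ↔ φ x ∈ eig ρ₂ g μ := by
    intro x
    rw [mem_eig, mem_eig, ← h, ← map_smul, φ.injective.eq_iff]
  have h2 : (eig ρ₁ g μ).map (φ : V₁ →ₗ[k] V₂) = eig ρ₂ g μ := by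
    ext y
    constructor
    · rintro ⟨x, hx, rfl⟩
      exact (h1 x).1 hx
    · intro hy
      refine ⟨φ.symm y, (h1 _).2 (by rwa [LinearEquiv.apply_symm_apply]), ?_⟩
      exact φ.apply_symm_apply y
  rw [← h2]
  exact (LinearEquiv.finrank_map_eq φ _).symm

/-- an integer combination of the multiplicities of the eigenvalues `μ i` of the elements `g i` of order dividing `n i` -/
noncomputable def eigFun {ι : Type x} (s : Finset ι) (c : ι → ℤ) (g : ι → G) (n : ι → ℕ) (μ : ι → k) (c₀ : ℤ)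
    (hg : ∀ i ∈ s, g i ^ n i = 1) (hn : ∀ i ∈ s, (n i : k) ≠ 0) (hμ : ∀ i ∈ s, μ i ^ n i = 1)
    (hμ0 : ∀ i ∈ s, μ i ≠ 0) : AddFun.{u, v, w} k G where
  psi {V} _ _ ρ := c₀ * Module.finrank k V + ∑ i ∈ s, c i * (Module.finrank k (eig ρ (g i) (μ i)) : ℤ)
  add {V} _ _ _ ρ W hW := by
    have h1 : Module.finrank k V = Module.finrank k W + Module.finrank k (V ⧸ W) := by
      have := Submodule.finrank_quotient_add_finrank W
      omega
    have h2 : ∑ i ∈ s, c i * (Module.finrank k (eig ρ (g i) (μ i)) : ℤ) =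
        ∑ i ∈ s, c i * (Module.finrank k (eig (subRep ρ W hW) (g i) (μ i)) : ℤ) +
        ∑ i ∈ s, c i * (Module.finrank k (eig (quotRep ρ W hW) (g i) (μ i)) : ℤ) := by
      rw [← Finset.sum_add_distrib]
      refine Finset.sum_congr rfl fun i hi => ?_
      rw [finrank_eig ρ W hW (g := g i) (n := n i) (by rw [← map_pow, hg i hi, map_one]) (hn i hi) (hμ i hi) (hμ0 i hi)]
      push_cast
      ring
    rw [h1, h2]
    push_cast
    ring
  iso {V₁ V₂} _ _ _ _ _ _ ρ₁ ρ₂ φ h := by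
    rw [φ.finrank_eq, Finset.sum_congr rfl fun i _ => by rw [finrank_eig_iso ρ₁ ρ₂ φ h]]

section dual

variable {V : Type w} [AddCommGroup V] [Module k V] [FiniteDimensional k V] (ρ : Representation k G V)
  (B : V →ₗ[k] V →ₗ[k] k)

/-- the annihilator of `N` on the left -/
def perpL (N : Submodule k V) : Submodule k V where
  carrier := {x | ∀ y ∈ N, B x y = 0}
  add_mem' {a b} ha hb y hy := by
    rw [map_add, LinearMap.add_apply, ha y hy, hb y hy, add_zero]
  zero_mem' y _ := by rw [map_zero, LinearMap.zero_apply]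
  smul_mem' c x hx y hy := by rw [map_smul, LinearMap.smul_apply, hx y hy, smul_zero]

theorem mem_perpL {N : Submodule k V} {x : V} : x ∈ perpL B N ↔ ∀ y ∈ N, B x y = 0 := Iff.rfl

variable {ρ B}

theorem inv_perpL (hB : ∀ g x y, B (ρ g x) (ρ g y) = B x y) {N : Submodule k V} (hN : Inv ρ N) :
    Inv ρ (perpL B N) := by
  intro g x hx y hy
  have h1 := hB g x (ρ g⁻¹ y)
  have h2 : ρ g (ρ g⁻¹ y) = y := by rw [← Module.End.mul_apply, ← map_mul, mul_inv_cancel, map_one, Module.End.one_apply]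
  rw [h2] at h1
  rw [h1]
  exact hx _ (hN _ _ hy)

/-- the adjoint of the projection -/
theorem proj_adj (hB : ∀ g x y, B (ρ g x) (ρ g y) = B x y) (g : G) (n : ℕ) (hgn : g ^ n = 1) {μ : k}
    (hμ : μ ^ n = 1) (x y : V) : B (proj ρ g n μ x) y = B x (proj ρ g n μ⁻¹ y) := by
  have hpow : ∀ i x y, B (((ρ g) ^ i) x) y = B x (((ρ g⁻¹) ^ i) y) := by
    intro i
    induction i with
    | zero => intro x y; rw [pow_zero, pow_zero]; rfl
    | succ i ih =>
      intro x y
      rw [pow_succ, Module.End.mul_apply, ih, pow_succ', Module.End.mul_apply]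
      have h1 := hB g x (ρ g⁻¹ (((ρ g⁻¹) ^ i) y))
      rw [← Module.End.mul_apply (ρ g), ← map_mul, mul_inv_cancel, map_one, Module.End.one_apply] at h1
      exact h1
  rw [proj_apply, proj_apply, inv_inv, map_smul, LinearMap.smul_apply, map_smul, map_sum, LinearMap.sum_apply, map_sum]
  congr 1
  rcases Nat.eq_zero_or_pos n with hn | hn
  · subst hn
    rw [Finset.range_zero, Finset.sum_empty, Finset.sum_empty]
  have hμ0 : μ ≠ 0 := by
    rintro rfl
    rw [zero_pow hn.ne'] at hμ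
    exact zero_ne_one hμ
  -- reindex `i ↦ n - i`
  have hL : ∀ i, B ((μ⁻¹) ^ i • ((ρ g) ^ i) x) y = (μ⁻¹) ^ i * B x (((ρ g⁻¹) ^ i) y) := fun i => by
    rw [map_smul, LinearMap.smul_apply, hpow, smul_eq_mul]
  have hR : ∀ i, B x (μ ^ i • ((ρ g) ^ i) y) = μ ^ i * B x (((ρ g) ^ i) y) := fun i => by
    rw [map_smul, smul_eq_mul]
  rw [Finset.sum_congr rfl fun i _ => hL i, Finset.sum_congr rfl fun i _ => hR i]
  have hkey : ∀ i, i ≤ n → (μ⁻¹) ^ i * B x (((ρ g⁻¹) ^ i) y) = μ ^ (n - i) * B x (((ρ g) ^ (n - i)) y) := by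
    intro i hi
    have h1 : (μ⁻¹) ^ i = μ ^ (n - i) := by
      rw [inv_pow, inv_eq_of_mul_eq_one_left]
      rw [← pow_add, Nat.sub_add_cancel hi, hμ]
    have h2 : (ρ g⁻¹) ^ i = (ρ g) ^ (n - i) := by
      rw [← map_pow, ← map_pow]
      congr 1
      rw [inv_pow, inv_eq_of_mul_eq_one_left]
      rw [← pow_add, Nat.sub_add_cancel hi, hgn]
    rw [h1, h2]
  have hn0 : μ ^ n * B x (((ρ g) ^ n) y) = μ ^ 0 * B x (((ρ g) ^ 0) y) := by
    rw [hμ, pow_zero, ← map_pow, hgn, map_one, pow_zero]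
  have h3 : ∑ i ∈ Finset.range (n + 1), μ ^ (n - i) * B x (((ρ g) ^ (n - i)) y) =
      ∑ i ∈ Finset.range (n + 1), μ ^ i * B x (((ρ g) ^ i) y) :=
    Finset.sum_range_reflect (fun i => μ ^ i * B x (((ρ g) ^ i) y)) (n + 1)
  rw [Finset.sum_congr rfl fun i hi => hkey i (Finset.mem_range.1 hi).le]
  rw [Finset.sum_range_succ, Finset.sum_range_succ, Nat.sub_self, hn0] at h3
  exact add_right_cancel h3

/-- **duality** -/
theorem finrank_eig_perp (hB : ∀ g x y, B (ρ g x) (ρ g y) = B x y) (hnd : ∀ y, (∀ x, B x y = 0) → y = 0)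
    {N : Submodule k V} (hN : Inv ρ N) {g : G} {n : ℕ} (hgn : g ^ n = 1) (hn : (n : k) ≠ 0) {μ : k}
    (hμ : μ ^ n = 1) :
    Module.finrank k (eig (quotRep ρ (perpL B N) (inv_perpL hB hN)) g μ) =
      Module.finrank k (eig (subRep ρ N hN) g μ⁻¹) := by
  have hn0 : n ≠ 0 := by rintro rfl; exact hn Nat.cast_zero
  have hμ0 : μ ≠ 0 := by
    rintro rfl
    rw [zero_pow hn0] at hμ
    exact zero_ne_one hμ
  have hμi : (μ⁻¹) ^ n = 1 := by rw [inv_pow, hμ, inv_one]
  have hρ : ρ g ^ n = 1 := by rw [← map_pow, hgn, map_one]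
  -- the two eigenspaces inside `V`
  let P : Submodule k V := eig ρ g μ
  let Q : Submodule k V := eig ρ g μ⁻¹ ⊓ N
  have hQ : Module.finrank k (eig (subRep ρ N hN) g μ⁻¹) = Module.finrank k Q := by
    refine LinearEquiv.finrank_eq (LinearEquiv.ofBijective
      ({ toFun := fun x => ⟨((x : N) : V), ?_, (x : N).2⟩, map_add' := fun x y => rfl, map_smul' := fun c x => rfl } :
        eig (subRep ρ N hN) g μ⁻¹ →ₗ[k] Q) ⟨?_, ?_⟩)
    · have h1 := (mem_eig _).1 x.2
      exact (mem_eig ρ).2 (congrArg Subtype.val h1)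
    · intro x y e
      apply Subtype.ext
      apply Subtype.ext
      exact congrArg (fun z : Q => (z : V)) e
    · rintro ⟨x, hx, hxN⟩
      exact ⟨⟨⟨x, hxN⟩, (mem_eig _).2 (Subtype.ext ((mem_eig ρ).1 hx))⟩, rfl⟩
  have hadd := finrank_eig ρ (perpL B N) (inv_perpL hB hN) hρ hn hμ hμ0
  have hsub : Module.finrank k (eig (subRep ρ (perpL B N) (inv_perpL hB hN)) g μ) =
      Module.finrank k ↥(P ⊓ perpL B N) := by
    refine LinearEquiv.finrank_eq (LinearEquiv.ofBijective
      ({ toFun := fun x => ⟨((x : perpL B N) : V), ?_, (x : perpL B N).2⟩, map_add' := fun x y => rfl,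
         map_smul' := fun c x => rfl } :
        eig (subRep ρ (perpL B N) (inv_perpL hB hN)) g μ →ₗ[k] ↥(P ⊓ perpL B N)) ⟨?_, ?_⟩)
    · have h1 := (mem_eig _).1 x.2
      exact (mem_eig ρ).2 (congrArg Subtype.val h1)
    · intro x y e
      apply Subtype.ext
      apply Subtype.ext
      exact congrArg (fun z : ↥(P ⊓ perpL B N) => (z : V)) e
    · rintro ⟨x, hx, hxN⟩
      exact ⟨⟨⟨x, hxN⟩, (mem_eig _).2 (Subtype.ext ((mem_eig ρ).1 hx))⟩, rfl⟩
  -- the pairing `P × Q → k`
  let f : P →ₗ[k] Module.Dual k Q :=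
    { toFun := fun x => (B x).comp Q.subtype
      map_add' := fun x y => by
        ext z
        simp
      map_smul' := fun c x => by
        ext z
        simp }
  have hf : ∀ (x : P) (y : Q), f x y = B x y := fun _ _ => rfl
  have hker : Module.finrank k (LinearMap.ker f) = Module.finrank k ↥(P ⊓ perpL B N) := by
    refine LinearEquiv.finrank_eq (LinearEquiv.ofBijective
      ({ toFun := fun x => ⟨((x : P) : V), (x : P).2, ?_⟩, map_add' := fun x y => rfl,
         map_smul' := fun c x => rfl } : LinearMap.ker f →ₗ[k] ↥(P ⊓ perpL B N)) ⟨?_, ?_⟩)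
    · intro y hy
      have h1 : f x = 0 := x.2
      have hx : ((x : P) : V) = proj ρ g n μ (x : P) := (proj_of_mem ρ hn hμ0 (x : P).2).symm
      rw [hx, proj_adj hB g n hgn hμ]
      have hy' : proj ρ g n μ⁻¹ y ∈ N := by
        rw [proj_apply]
        refine N.smul_mem _ (N.sum_mem fun i _ => N.smul_mem _ ?_)
        rw [← map_pow]
        exact hN _ _ hy
      have h2 := LinearMap.congr_fun h1 ⟨proj ρ g n μ⁻¹ y, proj_mem ρ hρ hμi (inv_ne_zero hμ0) y, hy'⟩
      exact h2
    · intro x y e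
      apply Subtype.ext
      apply Subtype.ext
      exact congrArg (fun z : ↥(P ⊓ perpL B N) => (z : V)) e
    · rintro ⟨x, hx, hxN⟩
      refine ⟨⟨⟨x, hx⟩, ?_⟩, rfl⟩
      rw [LinearMap.mem_ker]
      ext y
      exact hxN y y.2.2
  have hsurj : Function.Surjective f := by
    -- the transposed map is injective
    rw [← LinearMap.dualMap_injective_iff]
    rw [injective_iff_map_eq_zero]
    intro φ hφ
    obtain ⟨y, hy⟩ : ∃ y : Q, ∀ ξ : Module.Dual k Q, φ ξ = ξ y := by
      obtain ⟨y, hy⟩ := (Module.evalEquiv k Q).surjective φ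
      exact ⟨y, fun ξ => by rw [← hy]; rfl⟩
    have h1 : ∀ x : P, B x y = 0 := by
      intro x
      have h2 := LinearMap.congr_fun hφ x
      rw [LinearMap.dualMap_apply, hy] at h2
      exact h2
    have h2 : (y : V) = 0 := by
      apply hnd
      intro x
      have hyp : (y : V) = proj ρ g n μ⁻¹ (y : V) := (proj_of_mem ρ hn (inv_ne_zero hμ0) y.2.1).symm
      rw [hyp, ← proj_adj hB g n hgn hμ]
      exact h1 ⟨proj ρ g n μ x, proj_mem ρ hρ hμ hμ0 x⟩
    have h3 : y = 0 := Subtype.ext h2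
    ext ξ
    rw [hy, h3, map_zero]
    rfl
  have h1 := LinearMap.finrank_range_add_finrank_ker f
  rw [LinearMap.range_eq_top.2 hsurj, finrank_top, Subspace.dual_finrank_eq, hker] at h1
  rw [hsub] at hadd
  rw [hQ]
  have h2 : Module.finrank k P = Module.finrank k (eig ρ g μ) := rfl
  omega

end dual

end Cfsg.Agent.H940.E8L
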